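import Cfsg.Agent.Lib.ONanTwo.Perm.Janko

/-!
An abelian Sylow 2-subgroup in the setting of S3402 is a four group.

Blueprint: `blueprint/S3402.md`, part A1.
-/

set_option autoImplicit false
set_option linter.unusedSectionVars false
set_option linter.style.haveILetI false

namespace CfsgLib.ONanTwo

open MulAction

universe u v

variable {M : Type u} [Group M] [Finite M] {Ω : Type v} [Finite Ω] [MulAction M Ω] [FaithfulSMul M Ω]
  [IsSimpleGroup M] {a b : Ω} {S : Sylow 2 M} {T : Subgroup M}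

/-- Centralisers of involutions cannot be elementary of order at least eight. -/
theorem Sock.false_even (h : Sock a b S T) (h8 : 8 ≤ Nat.card (S : Subgroup M))
    (hexp : ∀ x ∈ (S : Subgroup M), x * x = 1)
    (hcent : ∀ x y : M, x ≠ 1 → x * x = 1 → y * x = x * y → y * y = 1) : False := by
  classical
  haveI : Fact (Nat.Prime 2) := ⟨Nat.prime_two⟩
  have hSc : ∀ x ∈ (S : Subgroup M), ∀ y ∈ (S : Subgroup M), x * y = y * x := fun x hx y hy =>
    calc x * y = (x * y)⁻¹ := eq_inv_of_mul_eq_one_left (hexp _ (mul_mem hx hy))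
      _ = y⁻¹ * x⁻¹ := mul_inv_rev x y
      _ = y * x := by rw [inv_eq_of_mul_eq_one_left (hexp x hx), inv_eq_of_mul_eq_one_left (hexp y hy)]
  have hC : ∀ x ∈ (S : Subgroup M), x ≠ 1 → ∀ y, y * x = x * y → y ∈ (S : Subgroup M) := by
    intro x hx hx1 y hy
    have e : Subgroup.centralizer ({x} : Set M) = (S : Subgroup M) := S.is_maximal'
      (fun z => ⟨1, Subtype.ext (by
        rw [pow_one, pow_two]
        exact hcent x z hx1 (hexp x hx) (Subgroup.mem_centralizer_singleton_iff.mp z.2))⟩)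
      fun z hz => Subgroup.mem_centralizer_singleton_iff.mpr (hSc z hz x hx)
    exact e ▸ Subgroup.mem_centralizer_singleton_iff.mpr hy
  have hTc : IsMulCommutative T := ⟨⟨fun x y => Subtype.ext (hSc _ (h.le x.2) _ (h.le y.2))⟩⟩
  have hz : ∀ {x : M} {c : Ω}, x • c = c → ∀ i : ℤ, x ^ i • c = c := fun {x c} hx i =>
    (stabilizer M c).zpow_mem hx i
  -- the group of a fixed pair through an involution of `S` lies in `S`
  have hR : ∀ x ∈ (S : Subgroup M), x ≠ 1 → ∀ c d : Ω, c ≠ d → x • c = c → x • d = d →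
      ∃ R : Subgroup M, R ≤ (S : Subgroup M) ∧ Nat.card R = Nat.card T ∧ x ∈ R ∧
        (∀ y ∈ R, y • c = c ∧ y • d = d) := by
    intro x hx hx1 c d hcd hxc hxd
    obtain ⟨R, -, hRc, hxR, hRfix, hcomm, -⟩ := h.exists_conj_T (P := Subgroup.zpowers x)
      (IsPGroup.of_card (n := 1) (by rw [Nat.card_zpowers, pow_one,
        orderOf_eq_prime (by rw [pow_two]; exact hexp x hx) hx1])) hcd
      fun y hy => by obtain ⟨i, rfl⟩ := hy; exact ⟨hz hxc i, hz hxd i⟩
    have hxR' := hxR (Subgroup.mem_zpowers x)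
    refine ⟨R, fun y hy => hC x hx hx1 y ?_, hRc, hxR', hRfix⟩
    exact congrArg Subtype.val ((hcomm hTc).1.comm ⟨y, hy⟩ ⟨x, hxR'⟩)
  have hSa : ∀ y ∈ (S : Subgroup M), y • a = a → y ∈ T := by
    intro y hy hya
    have hle : T ≤ (S : Subgroup M) ⊓ stabilizer M a := le_inf h.le fun t ht => h.fix_a ht
    have e : (S : Subgroup M) ⊓ stabilizer M a = T := by
      refine (Subgroup.eq_of_le_of_card_ge hle ?_).symm
      obtain ⟨w, hw, hwa⟩ := h.S_not_fix a
      have hne : (S : Subgroup M) ⊓ stabilizer M a ≠ (S : Subgroup M) := fun e' =>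
        hwa ((e'.symm ▸ hw : w ∈ (S : Subgroup M) ⊓ stabilizer M a)).2
      obtain ⟨k, hk⟩ := IsPGroup.iff_card.mp S.2
      obtain ⟨j, hj, hj'⟩ := (Nat.dvd_prime_pow Nat.prime_two).mp
        (hk ▸ Subgroup.card_dvd_of_le (inf_le_left : (S : Subgroup M) ⊓ stabilizer M a ≤ _))
      have hjk : j ≠ k := fun e' => hne (Subgroup.eq_of_le_of_card_ge inf_le_left (by rw [hk, hj', e']))
      have h1 := h.card_S
      rw [hk] at h1
      rw [hj']
      have h2 := Nat.pow_le_pow_right (show 0 < 2 by norm_num) (show j + 1 ≤ k by omega)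
      rw [pow_succ] at h2
      omega
    exact e ▸ (⟨hy, hya⟩ : y ∈ (S : Subgroup M) ⊓ stabilizer M a)
  -- an involution of `T` fixes `a` and `b` only
  have hF : ∀ t ∈ T, t ≠ 1 → ∀ e : Ω, t • e = e → e = a ∨ e = b := by
    intro t ht ht1 e he
    by_contra hh
    push Not at hh
    obtain ⟨R, hRS, hRc, -, hRfix⟩ := hR t (h.le ht) ht1 a e hh.1.symm (h.fix_a ht) he
    have e' : R = T := Subgroup.eq_of_le_of_card_ge (fun y hy => hSa y (hRS hy) (hRfix y hy).1) hRc.ge
    exact (h.fix_T fun s hs => (hRfix s (e'.symm ▸ hs)).2).elim hh.1 hh.2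
  obtain ⟨u, hu, huT⟩ : ∃ u ∈ (S : Subgroup M), u ∉ T := by
    obtain ⟨w, hw, hwa⟩ := h.S_not_fix a
    exact ⟨w, hw, fun hwT => hwa (h.fix_a hwT)⟩
  have hu1 : u ≠ 1 := fun e => huT (e ▸ T.one_mem)
  obtain ⟨g, hg⟩ := h.inv_into (hexp u hu)
  have hgab : g⁻¹ • a ≠ g⁻¹ • b := fun e => h.ne (MulAction.injective g⁻¹ e)
  obtain ⟨R, hRS, hRc, huR, hRfix⟩ := hR u hu hu1 _ _ hgab
    (conj_smul_fix (smul_inv_smul g a) (h.fix_a hg)) (conj_smul_fix (smul_inv_smul g b) (h.fix_b hg))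
  obtain ⟨y, hy, hy1, hyu⟩ : ∃ y ∈ R, y ≠ 1 ∧ y ≠ u := by
    by_contra hh
    push Not at hh
    have hS := h.card_S
    have : Nat.card R ≤ 2 := by
      refine le_of_le_of_eq (Nat.card_le_card_of_surjective
        (fun i : Fin 2 => if i = 0 then (1 : R) else ⟨u, huR⟩) fun z => ?_) (Nat.card_fin 2)
      by_cases hz : (z : M) = 1
      · exact ⟨0, Subtype.ext (by simp [hz])⟩
      · exact ⟨1, Subtype.ext (by simp [hh z z.2 hz])⟩
    omega
  obtain ⟨w, hw, hwT, hw1⟩ : ∃ w ∈ R, w ∈ T ∧ w ≠ 1 := by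
    by_cases hyT : y ∈ T
    · exact ⟨y, hy, hyT, hy1⟩
    refine ⟨y * u, mul_mem hy huR, ?_, fun e => hyu ?_⟩
    · exact (Subgroup.mul_mem_iff_of_index_two h.idx (a := ⟨y, hRS hy⟩) (b := ⟨u, hu⟩)).mpr
        ⟨fun h1 => absurd h1 hyT, fun h1 => absurd h1 huT⟩
    · rw [eq_inv_of_mul_eq_one_left e, inv_eq_of_mul_eq_one_left (hexp u hu)]
  have hua : u • a = a := by
    rcases hF w hwT hw1 _ (hRfix w hw).1 with e | e
    · exact e ▸ (hRfix u huR).1
    · rcases hF w hwT hw1 _ (hRfix w hw).2 with e' | e'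
      · exact e' ▸ (hRfix u huR).2
      · exact absurd (e.trans e'.symm) hgab
  exact huT (hSa u hu hua)

/-- An abelian Sylow 2-subgroup is elementary of order four. -/
theorem Sock.four_of_comm (h : Sock a b S T) (hna : ¬ IsMulCommutative M)
    (hS : IsMulCommutative (S : Subgroup M)) :
    Nat.card (S : Subgroup M) = 4 ∧ ∀ x ∈ (S : Subgroup M), x * x = 1 := by
  classical
  haveI : Fact (Nat.Prime 2) := ⟨Nat.prime_two⟩
  have hl : WalterAb.Listed M :=
    WalterAb.listed_of_P (fun X _ _ => CfsgLib.Walter.p_all X) M inferInstance hna fun P => by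
      obtain ⟨g, rfl⟩ := MulAction.exists_smul_eq M S P
      exact ⟨⟨fun x y => (Sylow.equiv S (g • S)).symm.injective (by
        rw [map_mul, map_mul]; exact hS.1.comm _ _)⟩⟩
  have hgood := hl.good S
  refine ⟨?_, hgood.selfCent.sq⟩
  obtain ⟨k, hk⟩ := IsPGroup.iff_card.mp S.2
  have h4 := hgood.four
  by_contra hne
  rw [hk] at h4 hne
  have h3 : 3 ≤ k := by
    by_contra hlt
    interval_cases k <;> simp_all
  have h8 : 8 ≤ Nat.card (S : Subgroup M) := hk ▸ Nat.pow_le_pow_right (show 0 < 2 by norm_num) h3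
  rcases hl with ⟨F, i1, i2, hc, ⟨e⟩⟩ | hJ
  · rcases hc with ⟨hq, -⟩ | ⟨n, hn, hc⟩
    · refine WalterAb.not_eight_dvd hq ?_
      rw [← Nat.card_congr e.toEquiv]
      exact (show 8 ∣ 2 ^ k from pow_dvd_pow 2 h3).trans (hk ▸ Subgroup.card_subgroup_dvd_card _)
    · haveI : CharP F 2 := by
        obtain ⟨p, hp⟩ := CharP.exists F
        haveI := hp
        obtain ⟨m, hm, hpm⟩ := FiniteField.card F p
        have h1 : p ∣ 2 ^ n := hc ▸ hpm ▸ dvd_pow_self p m.ne_zero
        obtain rfl : p = 2 := (Nat.prime_dvd_prime_iff_eq hm Nat.prime_two).mp (hm.dvd_of_dvd_pow h1)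
        exact hp
      refine h.false_even h8 hgood.selfCent.sq fun x y hx1 hx2 hxy => ?_
      -- move `x` into the unipotent group
      let U : Sylow 2 M := (CfsgLib.PSL2.uSylow (F := F) 2).mapSurjective (f := e.symm.toMonoidHom) e.symm.surjective
      obtain ⟨g, hg⟩ := Cfsg.exists_conj_mem_sylow U (X := Subgroup.zpowers x)
        (IsPGroup.of_card (n := 1) (by rw [Nat.card_zpowers, pow_one, orderOf_eq_prime (by rw [pow_two]; exact hx2) hx1]))
      obtain ⟨z, ⟨t, hzt⟩, hz⟩ : ∃ z ∈ (CfsgLib.PSL2.uHom : Multiplicative F →* _).range,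
          e.symm z = g * x * g⁻¹ := by
        have h1 := hg x (Subgroup.mem_zpowers x)
        rw [show (U : Subgroup M) = _ from Sylow.coe_mapSurjective _ _] at h1
        obtain ⟨z, hz, hz'⟩ := h1
        exact ⟨z, hz, hz'⟩
      have ht : Multiplicative.toAdd t ≠ 0 := fun h0 => hx1 (conj_eq_one_iff.mp (by
        rw [← hz, ← hzt, show t = 1 from h0, map_one, map_one] : g * x * g⁻¹ = 1))
      obtain ⟨r, hr⟩ := WalterAb.mem_uRange_of_comm ht (x := e (g * y * g⁻¹)) (by
        show e (g * y * g⁻¹) * CfsgLib.PSL2.uHom t = CfsgLib.PSL2.uHom t * e (g * y * g⁻¹)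
        rw [hzt, ← e.apply_symm_apply z, hz, ← map_mul, ← map_mul]
        refine congrArg e ?_
        rw [show g * y * g⁻¹ * (g * x * g⁻¹) = g * (y * x) * g⁻¹ by group, hxy]
        group)
      have h2 : e (g * y * g⁻¹) * e (g * y * g⁻¹) = 1 := by
        rw [← hr]; exact WalterAb.uu_sq (Multiplicative.toAdd r)
      rw [← map_mul, map_eq_one_iff e e.injective,
        show g * y * g⁻¹ * (g * y * g⁻¹) = g * (y * y) * g⁻¹ by group, conj_eq_one_iff] at h2
      exact h2
  · exact no_janko h hJ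

end CfsgLib.ONanTwo
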