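import Mathlib

/-!
No degree for `L₃(q)`: `n (n - 1)` does not divide `q³ (q + 1) (q² + q + 1)` for even `n > q² + q + 1`.

Blueprint: `blueprint/S3402.md`, part C.
-/

set_option autoImplicit false

namespace CfsgLib.ONanTwo

theorem l3_arith {p f : ℕ} (hp : p.Prime) (hp2 : p ≠ 2) (hf : 0 < f) {n : ℕ} (hn : Even n)
    (hr : (p ^ f) ^ 2 + p ^ f + 1 < n)
    (hdvd : n * (n - 1) ∣ (p ^ f) ^ 3 * ((p ^ f + 1) * ((p ^ f) ^ 2 + p ^ f + 1))) : False := by
  set q := p ^ f with hq
  set r := q ^ 2 + q + 1 with hr'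
  have hp3 : 3 ≤ p := by have := hp.two_le; omega
  have hq3 : 3 ≤ q := hp3.trans (Nat.le_self_pow hf.ne' p)
  have hqodd : q % 2 = 1 := by
    rw [hq, Nat.pow_mod, (hp.eq_two_or_odd).resolve_left hp2, one_pow, Nat.one_mod]
  have hsplit : ∃ x y : ℕ, n * (n - 1) = x * y ∧ ¬ p ∣ x ∧ Nat.Coprime y x ∧ r ≤ x ∧
      ((x = n ∧ y + 1 = x) ∨ (x = n - 1 ∧ y = x + 1)) := by
    have hco : Nat.Coprime n (n - 1) := by
      have h1 : Nat.Coprime (n - 1 + 1) (n - 1) := by simp
      rwa [show n - 1 + 1 = n by omega] at h1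
    by_cases hpn : p ∣ n
    · refine ⟨n - 1, n, Nat.mul_comm _ _, fun h => ?_, hco, by omega, Or.inr ⟨rfl, by omega⟩⟩
      exact hp.one_lt.ne' (Nat.eq_one_of_dvd_coprimes hco hpn h)
    · exact ⟨n, n - 1, rfl, hpn, hco.symm, by omega, Or.inl ⟨rfl, by omega⟩⟩
  obtain ⟨x, y, hxy, hpx, hco, hrx, hcase⟩ := hsplit
  rw [hxy] at hdvd
  have hxN : x ∣ (q + 1) * r :=
    (Nat.Coprime.pow_right 3 (Nat.Coprime.pow_right f ((hp.coprime_iff_not_dvd.mpr hpx).symm))).dvd_of_dvd_mul_left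
      ((dvd_mul_right x y).trans hdvd)
  obtain ⟨e, he⟩ := hxN
  have hy : y ∣ q ^ 3 * e := by
    have h1 : y ∣ q ^ 3 * e * x := (dvd_mul_left y x).trans (hdvd.trans (by rw [he]; exact ⟨1, by ring⟩))
    exact hco.dvd_of_dvd_mul_right h1
  have hx0 : 0 < x := by omega
  have he1 : e ≤ q + 1 := by
    by_contra hlt
    have := Nat.mul_le_mul hrx (show q + 2 ≤ e by omega)
    rw [← he] at this
    nlinarith
  have he0 : 0 < e := Nat.pos_of_ne_zero fun h => by
    rw [h, mul_zero] at he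
    nlinarith
  set D := y * e with hD
  have hDd : D ∣ q ^ 3 * (e * e) := by
    rw [← mul_assoc]; exact Nat.mul_dvd_mul_right hy e
  have hDeq : D + e = (q + 1) * r ∨ D = (q + 1) * r + e := by
    rcases hcase with ⟨-, h⟩ | ⟨-, h⟩
    · left; rw [he, hD, ← h]; ring
    · right; rw [he, hD, h]; ring
  have hqr : (q + 1) * r = q ^ 3 + 2 * q ^ 2 + 2 * q + 1 := by rw [hr']; ring
  have hge : q ^ 3 ≤ D := by
    rcases hDeq with h | h <;> nlinarith
  obtain ⟨v, -, hv⟩ := (Nat.dvd_prime_pow hp).mp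
    (show Nat.gcd D (q ^ 3) ∣ p ^ (f * 3) by rw [pow_mul]; exact Nat.gcd_dvd_right _ _)
  rcases Nat.lt_or_ge v f with hvf | hvf
  · have h1 : D ∣ p ^ v * (e * e) := by
      have h2 := (Nat.dvd_gcd (dvd_refl D) hDd).trans (Nat.gcd_mul_right_dvd_mul_gcd D (q ^ 3) (e * e))
      rw [hv] at h2
      exact h2.trans (Nat.mul_dvd_mul_left _ (Nat.gcd_dvd_right _ _))
    have h3 : 3 * p ^ v ≤ q := by
      calc 3 * p ^ v ≤ p ^ (v + 1) := by rw [pow_succ, mul_comm]; exact Nat.mul_le_mul_left _ hp3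
        _ ≤ p ^ f := Nat.pow_le_pow_right hp.pos hvf
    have h4 := Nat.le_of_dvd (Nat.mul_pos (pow_pos hp.pos v) (Nat.mul_pos he0 he0)) h1
    have h5 := Nat.mul_le_mul h3 (Nat.mul_le_mul he1 he1)
    nlinarith
  · have hqD : q ∣ D := (pow_dvd_pow p hvf).trans (hv ▸ Nat.gcd_dvd_left _ _)
    have hmul : q ∣ q ^ 3 + 2 * q ^ 2 + 2 * q := ⟨q ^ 2 + 2 * q + 2, by ring⟩
    rcases hcase with ⟨hxn, hy1⟩ | ⟨hxn, hy1⟩
    · have hD' : D + e = (q + 1) * r := by rw [he, hD, ← hy1]; ring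
      rw [hqr] at hD'
      have h1 : q ∣ e - 1 := by
        rw [show e - 1 = q ^ 3 + 2 * q ^ 2 + 2 * q - D by omega]
        exact Nat.dvd_sub hmul hqD
      obtain ⟨j, hj⟩ := h1
      have hj1 : j ≤ 1 := by
        by_contra hlt
        have := Nat.mul_le_mul_left q (show 2 ≤ j by omega)
        omega
      interval_cases j
      · have he' : e = 1 := by omega
        rw [he', mul_one] at hy
        have h2 := Nat.le_of_dvd (pow_pos (by omega) 3) hy
        rw [he', mul_one] at hD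
        omega
      · have he' : e = q + 1 := by omega
        rw [he'] at he
        have : x = r := Nat.eq_of_mul_eq_mul_right (show 0 < q + 1 by omega) (by rw [← he]; ring)
        omega
    · have hD' : D = (q + 1) * r + e := by rw [he, hD, hy1]; ring
      rw [hqr] at hD'
      have h1 : q ∣ e + 1 := by
        rw [show e + 1 = D - (q ^ 3 + 2 * q ^ 2 + 2 * q) by omega]
        exact Nat.dvd_sub hqD hmul
      obtain ⟨j, hj⟩ := h1
      have hj1 : j = 1 := by
        rcases Nat.lt_or_ge j 2 with h | h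
        · interval_cases j
          · omega
          · rfl
        · have := Nat.mul_le_mul_left q h
          omega
      rw [hj1, mul_one] at hj
      obtain ⟨s, hs⟩ : ∃ s, q = s + 3 := ⟨q - 3, by omega⟩
      have he' : e = s + 2 := by omega
      have h6 : s + 2 ∣ 6 := by
        have h2 : s + 2 ∣ (s + 2) * (s * s + 9 * s + 23) + 6 := by
          rw [show (s + 2) * (s * s + 9 * s + 23) + 6 = (q + 1) * r by rw [hqr, hs]; ring, he, he']
          exact dvd_mul_left _ _
        exact (Nat.dvd_add_right (dvd_mul_right _ _)).mp h2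
      have hs4 : s ≤ 4 := by
        have := Nat.le_of_dvd (by norm_num) h6
        omega
      obtain ⟨w, hw⟩ := hn
      have hxodd : x % 2 = 1 := by omega
      rw [hqr, hs, he'] at he
      interval_cases s <;> omega

end CfsgLib.ONanTwo
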