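import Cfsg.Agent.Lib.ONanTwo.Perm.PSLDegree

/-!
Degrees `2 mod 4` of doubly transitive actions of groups like `GL₂(q)` and `GU₂(q)`: a normal image of `SL₂(q)` with
central `±1`, of index at most two modulo the centre.

Blueprint: `blueprint/S3402.md`, part C.
-/

set_option autoImplicit false
set_option linter.unusedSectionVars false
set_option linter.style.haveILetI false

namespace CfsgLib.ONanTwo

open MulAction Pointwise

theorem psl_two_trans_degree {K : Type*} [Field K] [Fintype K] (hodd : Odd (Fintype.card K))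
    (h5 : 5 ≤ Fintype.card K) {X : Type*} [Finite X] [MulAction (Matrix.SpecialLinearGroup (Fin 2) K) X]
    (hz : ∀ z ∈ Subgroup.center (Matrix.SpecialLinearGroup (Fin 2) K), ∀ x : X, z • x = x)
    (h2 : IsMultiplyPretransitive (Matrix.SpecialLinearGroup (Fin 2) K) X 2) (hX : Nat.card X % 4 = 2) :
    Nat.card X = Fintype.card K + 1 ∨ (Fintype.card K = 9 ∧ Nat.card X = 6) := by
  classical
  haveI := Fintype.ofFinite X
  haveI : Nontrivial X := Finite.one_lt_card_iff_nontrivial.mp (by omega)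
  obtain ⟨c, d, hcd⟩ := exists_pair_ne X
  haveI hpp := isPreprimitive_of_is_two_pretransitive h2
  set H := stabilizer (Matrix.SpecialLinearGroup (Fin 2) K) c with hH
  have hHmax : IsCoatom H := (isCoatom_stabilizer_iff_preprimitive _ c).mpr hpp
  let π := QuotientGroup.mk' (Subgroup.center (Matrix.SpecialLinearGroup (Fin 2) K))
  have hπ : Function.Surjective π := QuotientGroup.mk'_surjective _
  have hker : π.ker ≤ H := by
    rw [QuotientGroup.ker_mk']; exact fun z hzz => hz z hzz c
  have hback : ((H.map π).comap π) = H := Subgroup.comap_map_eq_self hker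
  have hco : IsCoatom (H.map π) := by
    refine ⟨fun e => hHmax.1 ?_, fun J hJ => ?_⟩
    · rw [← hback, e, Subgroup.comap_top]
    · have h1 : H < J.comap π := hback ▸ (Subgroup.comap_lt_comap_of_surjective hπ).mpr hJ
      rw [← Subgroup.map_comap_eq_self_of_surjective hπ J, hHmax.2 _ h1, Subgroup.map_top_of_surjective _ hπ]
  have hidx : (H.map π).index = Nat.card X := by
    rw [Subgroup.index_map_eq H hπ hker, hH, index_stabilizer_of_transitive _ (x := c)]
  have hcard : Nat.card H = 2 * Nat.card (H.map π) := by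
    have h1 := Subgroup.card_mul_index H
    have h2' := Subgroup.card_mul_index (H.map π)
    rw [Subgroup.index_map_eq H hπ hker] at h2'
    have h3 : Nat.card (Subgroup.center (Matrix.SpecialLinearGroup (Fin 2) K)) = 2 := by
      rw [CfsgLib.SLCard.card_SL_center (by norm_num)]
      exact Nat.gcd_eq_left (by have := Nat.odd_iff.mp hodd; omega)
    have h4 := Subgroup.card_mul_index (Subgroup.center (Matrix.SpecialLinearGroup (Fin 2) K))
    rw [h3, Subgroup.index_eq_card] at h4
    rw [← h1, ← h2', ← mul_assoc] at h4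
    exact (Nat.eq_of_mul_eq_mul_right (Nat.pos_of_ne_zero Subgroup.index_ne_zero_of_finite) h4).symm
  have hdvd : Nat.card X - 1 ∣ Nat.card H := by
    have horb : orbit H d = {c}ᶜ := by
      rw [is_two_pretransitive_iff] at h2
      ext e
      simp only [mem_orbit_iff, Set.mem_compl_iff, Set.mem_singleton_iff]
      constructor
      · rintro ⟨g, rfl⟩ e'
        exact hcd (MulAction.injective (g : Matrix.SpecialLinearGroup (Fin 2) K) (g.2.trans e'.symm))
      · intro he
        obtain ⟨g, h1, h2⟩ := h2 (a := c) (b := d) (c := c) (d := e) hcd (Ne.symm he)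
        exact ⟨⟨g, h1⟩, h2⟩
    have h1 := index_stabilizer H d
    rw [horb, Set.ncard_compl, Set.ncard_singleton] at h1
    exact h1 ▸ Subgroup.index_dvd_card _
  rw [hcard] at hdvd
  have hd' : Nat.card X - 1 ∣ Nat.card (H.map π) :=
    (Nat.Coprime.symm (Nat.prime_two.coprime_iff_not_dvd.mpr (by omega))).dvd_of_dvd_mul_left hdvd
  rw [← hidx] at hd'
  rcases psl_degree hodd h5 hco (by rw [hidx]; exact hX) hd' with h | ⟨h, h'⟩
  · exact Or.inl (hidx ▸ h)
  · exact Or.inr ⟨h, hidx ▸ h'⟩

/-- The degree. -/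
theorem cent_degree {K : Type*} [Field K] [Fintype K] (hodd : Odd (Fintype.card K)) (h5 : 5 ≤ Fintype.card K)
    {C : Type*} [Group C] [Finite C] {X : Type*} [Finite X] [MulAction C X]
    (φ : Matrix.SpecialLinearGroup (Fin 2) K →* C) [hn : φ.range.Normal]
    (hcen : ∀ z ∈ Subgroup.center (Matrix.SpecialLinearGroup (Fin 2) K), φ z ∈ Subgroup.center C)
    (hidx : (φ.range ⊔ Subgroup.center C).index ≤ 2)
    (two : ∀ {c d e f : X}, c ≠ d → e ≠ f → ∃ g : C, g • c = e ∧ g • d = f) (hX : Nat.card X % 4 = 2) :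
    Nat.card X = 2 ∨ Nat.card X = Fintype.card K + 1 ∨ (Fintype.card K = 9 ∧ Nat.card X = 6) := by
  classical
  haveI := Fintype.ofFinite X
  by_cases hk2 : Nat.card X = 2
  · exact Or.inl hk2
  refine Or.inr ?_
  have hthird : ∀ x y : X, ∃ z : X, z ≠ x ∧ z ≠ y := fun x y => by
    by_contra hh
    push Not at hh
    have : Nat.card X ≤ 2 := by
      refine le_of_le_of_eq (Nat.card_le_card_of_surjective (fun i : Fin 2 => if i = 0 then x else y) fun z => ?_)
        (Nat.card_fin 2)
      by_cases h : z = x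
      · exact ⟨0, by simp [h]⟩
      · exact ⟨1, by simp [hh z h]⟩
    omega
  set L := φ.range ⊔ Subgroup.center C with hL
  -- the centre acts trivially
  have hZ : ∀ z ∈ Subgroup.center C, ∀ x : X, z • x = x := by
    intro z hz x
    by_contra hne
    obtain ⟨e, hex, hez⟩ := hthird x (z • x)
    obtain ⟨g, g1, g2⟩ := two (Ne.symm hne) hex.symm
    refine hez (g2.symm.trans ?_)
    rw [← mul_smul, Subgroup.mem_center_iff.mp hz g, mul_smul, g1]
  have hLmem : ∀ g ∈ L, ∃ s, ∀ x : X, g • x = φ s • x := by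
    intro g hg
    rw [hL, Subgroup.mem_sup_of_normal_left] at hg
    obtain ⟨w, ⟨s, rfl⟩, z, hz, rfl⟩ := hg
    exact ⟨s, fun x => by rw [mul_smul, hZ z hz x]⟩
  have hcoset : ∀ g h : C, g ∉ L → h ∉ L → g⁻¹ * h ∈ L := by
    intro g h hg hh
    have h0 : L.index ≠ 0 := Subgroup.index_ne_zero_of_finite
    have hi : L.index = 2 := by
      have h1 : L.index ≠ 1 := fun e => hg (by rw [Subgroup.index_eq_one.mp e]; trivial)
      omega
    exact (Subgroup.mul_mem_iff_of_index_two hi).mpr
      ⟨fun h1 => absurd ((inv_mem_iff (H := L)).mp h1) hg, fun h1 => absurd h1 hh⟩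
  -- the image of `SL₂` moves every point
  have hmove : ∀ x : X, ∃ s, φ s • x ≠ x := by
    by_contra hh
    push Not at hh
    obtain ⟨c, hc⟩ := hh
    have hall : ∀ s, ∀ x : X, φ s • x = x := by
      intro s x
      obtain ⟨y, hyx, hyc⟩ := hthird x c
      obtain ⟨g, hg, -⟩ := two (Ne.symm hyc) hyx.symm
      obtain ⟨s', hs'⟩ := hn.conj_mem _ ⟨s, rfl⟩ g⁻¹
      have h1 := hc s'
      rw [hs', mul_smul, mul_smul, inv_inv, hg, inv_smul_eq_iff, hg] at h1
      exact h1
    have hL1 : ∀ g ∈ L, ∀ x : X, g • x = x := fun g hg x => by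
      obtain ⟨s, hs⟩ := hLmem g hg
      rw [hs x, hall s x]
    have hcomm : ∀ g h : C, ∀ x : X, g • h • x = h • g • x := by
      intro g h x
      by_cases hg : g ∈ L
      · rw [hL1 g hg, hL1 g hg]
      by_cases hh' : h ∈ L
      · rw [hL1 h hh', hL1 h hh']
      have e : ∀ y, h • y = g • y := fun y => by
        calc h • y = (g * (g⁻¹ * h)) • y := by rw [mul_inv_cancel_left]
          _ = g • ((g⁻¹ * h) • y) := mul_smul _ _ _
          _ = g • y := by rw [hL1 _ (hcoset g h hg hh') y]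
      rw [e x, e (g • x)]
    obtain ⟨d, -, hdc⟩ := hthird c c
    obtain ⟨e, hec, hed⟩ := hthird c d
    obtain ⟨g, g1, g2⟩ := two hdc.symm hec.symm
    obtain ⟨k, k1, -⟩ := two hdc.symm hdc
    have := hcomm g k c
    rw [k1, g2, g1, k1] at this
    exact hed this
  letI : MulAction (Matrix.SpecialLinearGroup (Fin 2) K) X := MulAction.compHom X φ
  refine psl_two_trans_degree hodd h5 (fun z hz x => hZ _ (hcen z hz) x) ?_ hX
  -- transitivity
  have htrans : ∀ x y : X, ∃ s, φ s • x = y := by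
    intro x y
    by_cases hxy : y = x
    · exact ⟨1, by rw [map_one, one_smul, hxy]⟩
    obtain ⟨s, hs⟩ := hmove x
    obtain ⟨g, g1, g2⟩ := two (Ne.symm hs) (Ne.symm hxy)
    obtain ⟨s', hs'⟩ := hn.conj_mem _ ⟨s, rfl⟩ g
    exact ⟨s', by rw [hs', mul_smul, mul_smul, inv_smul_eq_iff.mpr g1.symm, g2]⟩
  -- the stabiliser is transitive on the other points
  have hstab : ∀ c d e : X, d ≠ c → e ≠ c → ∃ s, φ s • c = c ∧ φ s • d = e := by
    intro c d e hdc hec
    by_contra hne
    set O : Set X := {y | ∃ s, φ s • c = c ∧ φ s • d = y} with hO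
    obtain ⟨g, g1, g2⟩ := two hdc.symm hec.symm
    have hmem : ∀ {y}, y ∈ O → y ≠ c := fun {y} ⟨s, s1, s2⟩ e' =>
      hdc (MulAction.injective (φ s) (s2.trans (e'.trans s1.symm)))
    have hdecomp : ∀ h ∈ L, h • c = c → ∃ s, φ s • c = c ∧ ∀ x : X, h • x = φ s • x := fun h hh h1 => by
      obtain ⟨s, hs⟩ := hLmem h hh
      exact ⟨s, (hs c).symm.trans h1, hs⟩
    have hgL : g ∉ L := fun hg => by
      obtain ⟨s, s1, s2⟩ := hdecomp g hg g1
      exact hne ⟨s, s1, (s2 d).symm.trans g2⟩
    -- conjugation by an element fixing `c`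
    have hconj : ∀ h : C, h • c = c → ∀ s, φ s • c = c → ∃ s', φ s' • c = c ∧ φ s' = h * φ s * h⁻¹ := by
      intro h h1 s s1
      obtain ⟨s', hs'⟩ := hn.conj_mem _ ⟨s, rfl⟩ h
      refine ⟨s', ?_, hs'⟩
      rw [hs', mul_smul, mul_smul, inv_smul_eq_iff.mpr h1.symm, s1, h1]
    have hcover : ∀ y : X, y ≠ c → y ∈ O ∨ y ∈ g • O := by
      intro y hy
      obtain ⟨h, h1, h2⟩ := two hdc.symm hy.symm
      by_cases hh : h ∈ L
      · obtain ⟨s, s1, s2⟩ := hdecomp h hh h1
        exact Or.inl ⟨s, s1, (s2 d).symm.trans h2⟩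
      · obtain ⟨s, s1, s2⟩ := hdecomp (g⁻¹ * h) (hcoset g h hgL hh)
          (by rw [mul_smul, h1, inv_smul_eq_iff, g1])
        refine Or.inr ⟨φ s • d, ⟨s, s1, rfl⟩, ?_⟩
        show g • φ s • d = y
        rw [← s2, ← mul_smul, mul_inv_cancel_left, h2]
    have hdisj : Disjoint O (g • O) := by
      rw [Set.disjoint_left]
      rintro y ⟨s, s1, s2⟩ ⟨z, ⟨t, t1, t2⟩, hz⟩
      change g • z = y at hz
      obtain ⟨t', t1', t2'⟩ := hconj g g1 t t1
      refine hne ⟨t'⁻¹ * s, ?_, ?_⟩
      · rw [map_mul, map_inv, mul_smul, s1, inv_smul_eq_iff, t1']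
      · rw [map_mul, map_inv, mul_smul, s2, inv_smul_eq_iff, t2', mul_smul, mul_smul, ← g2, inv_smul_smul,
          t2, hz]
    have hunion : O ∪ g • O = {c}ᶜ := by
      ext y
      simp only [Set.mem_union, Set.mem_compl_iff, Set.mem_singleton_iff]
      refine ⟨?_, hcover y⟩
      rintro (hy | ⟨z, hz, rfl⟩)
      · exact hmem hy
      · exact fun e' => hmem hz (MulAction.injective g (e'.trans g1.symm))
    have hcard := Set.ncard_union_eq hdisj
    rw [hunion, Set.ncard_compl, Set.ncard_singleton, Set.ncard_smul_set] at hcard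
    omega
  rw [is_two_pretransitive_iff]
  intro x y x' y' hxy hxy'
  obtain ⟨s, hs⟩ := htrans x x'
  have hne' : φ s • y ≠ x' := fun e' => hxy (MulAction.injective (φ s) (hs.trans e'.symm))
  obtain ⟨t, t1, t2⟩ := hstab x' (φ s • y) y' hne' hxy'.symm
  refine ⟨t * s, ?_, ?_⟩
  · show φ (t * s) • x = x'
    rw [map_mul, mul_smul, hs, t1]
  · show φ (t * s) • y = y'
    rw [map_mul, mul_smul, t2]

end CfsgLib.ONanTwo
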