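import Mathlib
import Cfsg.Agent.S5892
import Cfsg.Agent.Lib.SLCard

/-!
Degrees `2 mod 4` of doubly transitive actions of `L₂(q)`, `q` odd.

Blueprint: `blueprint/S3402.md`, part C.
-/

set_option autoImplicit false
set_option linter.unusedSectionVars false
set_option linter.style.haveILetI false

namespace CfsgLib.ONanTwo

theorem pgl_card {K : Type} [Field K] [Fintype K] :
    Nat.card (Matrix.ProjGenLinGroup (Fin 2) K) = Fintype.card K * (Fintype.card K ^ 2 - 1) := by
  rw [CfsgLib.SLCard.card_PGL, CfsgLib.SLCard.card_SL_two]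

theorem two_mul_card_psl {F : Type*} [Field F] [Fintype F] (hodd : Odd (Fintype.card F)) :
    2 * Nat.card (Matrix.ProjectiveSpecialLinearGroup (Fin 2) F) = Fintype.card F * (Fintype.card F ^ 2 - 1) := by
  have h := CfsgLib.SLCard.gcd_mul_card_PSL (F := F) (n := 2) (by norm_num)
  have h1 : 1 < Fintype.card F := Fintype.one_lt_card
  rw [CfsgLib.SLCard.card_SL_two, Nat.gcd_eq_left (show 2 ∣ Fintype.card F - 1 by
    have := Nat.odd_iff.mp hodd; omega)] at h
  exact h

theorem card_alt {m r : ℕ} (h : 2 * r = m.factorial) (hm : 2 ≤ m) : Nat.card (alternatingGroup (Fin m)) = r := by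
  haveI : Nontrivial (Fin m) := Fin.nontrivial_iff_two_le.mpr hm
  have h1 := two_mul_card_alternatingGroup (α := Fin m)
  rw [Fintype.card_perm, Fintype.card_fin, ← Nat.card_eq_fintype_card, ← h] at h1
  omega

/-- A maximal subgroup of index `n = 2 mod 4` whose order is divisible by `n - 1` is a Borel subgroup, or `q = 9` and
`n = 6`. -/
theorem psl_degree {F : Type*} [Field F] [Fintype F] (hodd : Odd (Fintype.card F)) (h5 : 5 ≤ Fintype.card F)
    {H : Subgroup (Matrix.ProjectiveSpecialLinearGroup (Fin 2) F)} (hH : IsCoatom H) (hn : H.index % 4 = 2)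
    (hd : H.index - 1 ∣ Nat.card H) :
    H.index = Fintype.card F + 1 ∨ (Fintype.card F = 9 ∧ H.index = 6) := by
  classical
  obtain ⟨p, hp⟩ := CharP.exists F
  haveI : Fact p.Prime := ⟨CharP.char_is_prime F p⟩
  set q := Fintype.card F with hq
  have hcard := two_mul_card_psl hodd
  rw [← Subgroup.card_mul_index H, ← hq] at hcard
  set n := H.index
  set m := Nat.card H with hm
  have hm0 : 0 < m := Nat.card_pos
  have hle := Nat.le_of_dvd hm0 hd
  have hodd' := Nat.odd_iff.mp hodd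
  obtain ⟨j, hj⟩ : ∃ j, q = j + 5 := ⟨q - 5, by omega⟩
  have hsq : q ^ 2 - 1 = j * j + 10 * j + 24 := by
    rw [hj, Nat.sub_eq_iff_eq_add (Nat.one_le_pow _ _ (by omega))]; ring
  rcases Cfsg.Agent.S5892.result p hodd h5 H hH with h | ⟨-, k, hk, ⟨e⟩⟩ | ⟨-, -, k, hk, ⟨e⟩⟩ |
    ⟨F₀, i1, i2, hq2, ⟨e⟩⟩ | ⟨F₀, i1, i2, r, hr, hr2, hqr, ⟨e⟩⟩ | ⟨-, -, ⟨e⟩⟩ | ⟨-, -, -, ⟨e⟩⟩ | ⟨-, -, ⟨e⟩⟩
  · left
    rw [← hm, ← hq] at h
    rw [← mul_assoc, h, hsq, hj, show j + 5 - 1 = j + 4 by omega] at hcard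
    have h1 : (j + 4) * n = (j + 4) * (j + 6) := Nat.eq_of_mul_eq_mul_left (show 0 < j + 5 by omega) (by
      rw [← mul_assoc, hcard]; ring)
    have := Nat.eq_of_mul_eq_mul_left (show 0 < j + 4 by omega) h1
    omega
  · exfalso
    have hm' := Nat.card_congr e.toEquiv
    rw [DihedralGroup.nat_card, ← hm] at hm'
    have hk' : m = j + 4 := by omega
    rw [hk', hsq, hj] at hcard
    have h1 : 2 * n = (j + 5) * (j + 6) := Nat.eq_of_mul_eq_mul_left (show 0 < j + 4 by omega) (by
      rw [← mul_assoc, mul_comm (j + 4) 2, mul_assoc, hcard]; ring)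
    nlinarith [show n ≤ j + 5 by omega]
  · exfalso
    have hm' := Nat.card_congr e.toEquiv
    rw [DihedralGroup.nat_card, ← hm] at hm'
    have hk' : m = j + 6 := by omega
    rw [hk', hsq, hj] at hcard
    have h1 : 2 * n = (j + 5) * (j + 4) := Nat.eq_of_mul_eq_mul_left (show 0 < j + 6 by omega) (by
      rw [← mul_assoc, mul_comm (j + 6) 2, mul_assoc, hcard]; ring)
    nlinarith [show n ≤ j + 7 by omega]
  · exfalso
    have hm' := Nat.card_congr e.toEquiv
    rw [pgl_card, ← hm] at hm'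
    rw [← hq] at hq2
    obtain ⟨i, hi⟩ : ∃ i, Fintype.card F₀ = i + 2 := ⟨Fintype.card F₀ - 2, by
      have := Fintype.one_lt_card (α := F₀); omega⟩
    have hs : (i + 2) ^ 2 - 1 = (i + 1) * (i + 3) := by
      rw [Nat.sub_eq_iff_eq_add (Nat.one_le_pow _ _ (by omega))]; ring
    have hs2 : ((i + 2) ^ 2) ^ 2 - 1 = (i + 1) * (i + 3) * ((i + 2) ^ 2 + 1) := by
      rw [Nat.sub_eq_iff_eq_add (Nat.one_le_pow _ _ (by positivity))]; ring
    rw [hi, hs] at hm'
    rw [hq2, hi, hs2, hm'] at hcard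
    have h2n : 2 * n = (i + 2) * ((i + 2) ^ 2 + 1) :=
      Nat.eq_of_mul_eq_mul_left (show 0 < (i + 2) * ((i + 1) * (i + 3)) by positivity) (by
        calc (i + 2) * ((i + 1) * (i + 3)) * (2 * n) = 2 * ((i + 2) * ((i + 1) * (i + 3)) * n) := by ring
          _ = _ := hcard
          _ = _ := by ring)
    have h2 : 2 * (n - 1) = (i + 1) * (i * i + 5 * i + 8) := by
      have e1 : (i + 2) * ((i + 2) ^ 2 + 1) = (i + 1) * (i * i + 5 * i + 8) + 2 := by ring
      omega
    have h3 : (i + 1) * (i * i + 5 * i + 8) ∣ (i + 1) * (2 * ((i + 2) * (i + 3))) := by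
      rw [← h2, show (i + 1) * (2 * ((i + 2) * (i + 3))) = 2 * m by rw [hm']; ring]
      exact Nat.mul_dvd_mul_left 2 hd
    obtain ⟨t, ht⟩ := Nat.dvd_of_mul_dvd_mul_left (show 0 < i + 1 by omega) h3
    have ht2 : t < 2 := by
      by_contra hlt
      nlinarith [Nat.mul_le_mul_left (i * i + 5 * i + 8) (show 2 ≤ t by omega)]
    interval_cases t <;> nlinarith
  · exfalso
    rw [← hq] at hqr
    have h0 : Odd (Fintype.card F₀) := Nat.odd_iff.mpr (by
      rcases Nat.mod_two_eq_zero_or_one (Fintype.card F₀) with h | h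
      · rw [hqr, Nat.pow_mod, h, zero_pow hr.ne_zero] at hodd'
        simp at hodd'
      · exact h)
    have hm' := two_mul_card_psl (F := F₀) h0
    rw [← Nat.card_congr e.toEquiv, ← hm] at hm'
    set s := Fintype.card F₀ with hs
    have hs3 : 3 ≤ s := by
      have := Fintype.one_lt_card (α := F₀); have := Nat.odd_iff.mp h0; omega
    have hr3 : 3 ≤ r := by
      have := hr.two_le; have := Nat.odd_iff.mp hr2; omega
    have hq3 : s ^ 3 ≤ q := hqr ▸ Nat.pow_le_pow_right (by omega) hr3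
    have h2m : 2 * m ≤ q := by
      rw [hm']
      calc s * (s ^ 2 - 1) ≤ s * s ^ 2 := Nat.mul_le_mul_left _ (Nat.sub_le _ _)
        _ = s ^ 3 := by ring
        _ ≤ q := hq3
    have hn' : n ≤ m + 1 := by omega
    have h4 : 2 * (m * n) ≤ q * (m + 1) := by
      calc 2 * (m * n) = 2 * m * n := by ring
        _ ≤ q * (m + 1) := Nat.mul_le_mul h2m hn'
    rw [hcard] at h4
    have h5' := Nat.le_of_mul_le_mul_left h4 (by omega)
    have h6 : 5 * q ≤ q ^ 2 := by rw [pow_two]; exact Nat.mul_le_mul_right _ h5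
    omega
  · have hm' : m = 60 := by rw [hm, Nat.card_congr e.toEquiv, card_alt (r := 60) (by rfl) (by norm_num)]
    rw [hm'] at hd hcard hle
    have hn6 : n = 2 ∨ n = 6 := by
      have hall : ∀ i : Fin 62, i.val % 4 = 2 → i.val - 1 ∣ 60 → i.val = 2 ∨ i.val = 6 := by decide +kernel
      exact hall ⟨n, by omega⟩ hn hd
    rw [hsq, hj] at hcard
    rcases hn6 with e' | e' <;> rw [e'] at hcard
    · have : j ≤ 2 := by nlinarith
      interval_cases j <;> simp at hcard
    · have : j ≤ 5 := by nlinarith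
      interval_cases j <;> first | exact Or.inr ⟨by omega, e'⟩ | simp at hcard
  · exfalso
    have hm' : m = 12 := by rw [hm, Nat.card_congr e.toEquiv, card_alt (r := 12) (by rfl) (by norm_num)]
    rw [hm'] at hd hcard hle
    have hn2 : n = 2 := by
      have hall : ∀ i : Fin 14, i.val % 4 = 2 → i.val - 1 ∣ 12 → i.val = 2 := by decide
      exact hall ⟨n, by omega⟩ hn hd
    rw [hsq, hj, hn2] at hcard
    nlinarith
  · exfalso
    have hm' : m = 24 := by
      rw [hm, Nat.card_congr e.toEquiv, Nat.card_perm, Nat.card_fin]; rfl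
    rw [hm'] at hd hcard hle
    have hn2 : n = 2 := by
      have hall : ∀ i : Fin 26, i.val % 4 = 2 → i.val - 1 ∣ 24 → i.val = 2 := by decide
      exact hall ⟨n, by omega⟩ hn hd
    rw [hsq, hj, hn2] at hcard
    nlinarith

end CfsgLib.ONanTwo
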