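import Cfsg.Agent.Lib.ONanTwo.Perm.Pairs
import Cfsg.Agent.Lib.ONanTwo.Perm.PSLDegree
import Cfsg.Agent.Lib.CoreKill.Rows
import Cfsg.Agent.S0483
import Cfsg.Agent.S0254

/-!
A simple doubly transitive group of degree `2 mod 4` with dihedral Sylow 2-subgroups is `L₂(q)` on `q + 1` points
or `A₆` on six.

Blueprint: `blueprint/S3402.md`, part C.
-/

set_option autoImplicit false
set_option linter.unusedSectionVars false
set_option linter.style.haveILetI false

namespace CfsgLib.ONanTwo

open MulAction

universe u v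

/-- No permutation of seven letters has order fourteen. -/
theorem no_fourteen (σ : Equiv.Perm (Fin 7)) : orderOf σ ≠ 14 := by
  intro h
  have key : ∀ (s : Multiset ℕ), 7 ∣ s.lcm → ∃ x ∈ s, 7 ∣ x := by
    intro s
    induction s using Multiset.induction with
    | empty => intro h7; simp at h7
    | cons x s ih =>
      intro h7
      rw [Multiset.lcm_cons] at h7
      rcases (Nat.Prime.dvd_mul (by norm_num)).mp (h7.trans (Nat.lcm_dvd_mul x s.lcm)) with h' | h'
      · exact ⟨x, Multiset.mem_cons_self _ _, h'⟩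
      · obtain ⟨y, hy, hy'⟩ := ih h'
        exact ⟨y, Multiset.mem_cons_of_mem hy, hy'⟩
  have h1 := σ.lcm_cycleType
  obtain ⟨x, hx, hx7⟩ := key σ.cycleType (by rw [h1, h]; norm_num)
  have hle := σ.sum_cycleType_le
  rw [Fintype.card_fin, ← Multiset.cons_erase hx, Multiset.sum_cons] at hle
  have h2 := Equiv.Perm.two_le_of_mem_cycleType hx
  have hx' : x = 7 := by
    have := Nat.le_of_dvd (by omega) hx7
    omega
  have hrest : σ.cycleType.erase x = 0 := by
    refine Multiset.eq_zero_of_forall_notMem fun y hy => ?_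
    have := Equiv.Perm.two_le_of_mem_cycleType (Multiset.mem_of_mem_erase hy)
    have := Multiset.single_le_sum (fun _ _ => Nat.zero_le _) y hy
    omega
  rw [← Multiset.cons_erase hx, hrest, hx', h] at h1
  simp at h1

variable {M : Type u} [Group M] [Finite M] {Ω : Type v} [Finite Ω] [MulAction M Ω] [FaithfulSMul M Ω]
  [IsSimpleGroup M] {a b : Ω} {S : Sylow 2 M} {T : Subgroup M}

theorem Sock.isCoatom_stab (h : Sock a b S T) : IsCoatom (stabilizer M a) := by
  haveI : IsPretransitive M Ω := ⟨h.trans⟩
  haveI : Nontrivial Ω := ⟨⟨a, b, h.ne⟩⟩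
  exact (isCoatom_stabilizer_iff_preprimitive M a).mpr
    (isPreprimitive_of_is_two_pretransitive (is_two_pretransitive_iff.mpr fun p q => h.two p q))

theorem Sock.card_stab (h : Sock a b S T) :
    Nat.card (stabilizer M a) = (Nat.card Ω - 1) * Nat.card ↥(stabilizer M a ⊓ stabilizer M b) := by
  haveI := Fintype.ofFinite Ω
  rw [Nat.card_eq_fintype_card (α := Ω)]
  exact Cfsg.Agent.S3401.card_stab_mul (is_two_pretransitive_iff.mpr fun p q => h.two p q) h.ne

theorem Sock.index_stab (h : Sock a b S T) : (stabilizer M a).index = Nat.card Ω :=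
  haveI : IsPretransitive M Ω := ⟨h.trans⟩
  index_stabilizer_of_transitive M (x := a)

/-- The order of the group. -/
theorem Sock.card_eq (h : Sock a b S T) :
    Nat.card M = Nat.card Ω * (Nat.card Ω - 1) * Nat.card ↥(stabilizer M a ⊓ stabilizer M b) := by
  rw [← Subgroup.card_mul_index (stabilizer M a), h.card_stab, h.index_stab]
  ring

/-- The group embeds in the symmetric group. -/
theorem Sock.card_dvd_factorial (h : Sock a b S T) : Nat.card M ∣ (Nat.card Ω).factorial := by
  rw [← Nat.card_perm]
  exact Subgroup.card_dvd_of_injective (toPermHom M Ω) toPerm_injective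

/-- The dihedral case. -/
theorem Sock.dihedral_case (h : Sock a b S T) (hna : ¬ IsMulCommutative M) {k : ℕ} (hk : 2 ≤ k)
    (e : (S : Subgroup M) ≃* DihedralGroup k) :
    (Nat.card Ω = 6 ∧ Nonempty (M ≃* ↥(alternatingGroup (Fin 6)))) ∨
      ∃ (F : Type) (_ : Field F) (_ : Fintype F), 4 ≤ Fintype.card F ∧ Nat.card Ω = Fintype.card F + 1 ∧
        Nonempty (M ≃* Matrix.ProjectiveSpecialLinearGroup (Fin 2) F) := by
  classical
  haveI : Group.IsPerfect M := ⟨(IsSimpleGroup.eq_bot_or_eq_top_of_normal (commutator M) inferInstance).resolve_left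
    fun e => hna ⟨⟨fun x y => commutatorElement_eq_one_iff_mul_comm.mp (Subgroup.mem_bot.mp (e ▸
      Subgroup.commutator_mem_commutator (Subgroup.mem_top x) (Subgroup.mem_top y)))⟩⟩⟩
  have hcore := CfsgLib.CoreKill.oddCore_eq_bot_of_simple (G := M) hna
  rcases Cfsg.Agent.S0483.result S k hk ⟨e⟩ with ⟨F, i1, i2, hodd, h3, ⟨f⟩⟩ | ⟨f⟩
  · let φ : M ≃* Matrix.ProjectiveSpecialLinearGroup (Fin 2) F :=
      ((QuotientGroup.quotientMulEquivOfEq hcore).trans QuotientGroup.quotientBot).symm.trans f
    have hco : IsCoatom ((stabilizer M a).map φ.toMonoidHom) :=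
      (OrderIso.isCoatom_iff (φ.mapSubgroup) (stabilizer M a)).mpr h.isCoatom_stab
    have hidx : ((stabilizer M a).map φ.toMonoidHom).index = Nat.card Ω := by
      rw [Subgroup.index_map_of_bijective φ.bijective, h.index_stab]
    have hcard : Nat.card ((stabilizer M a).map φ.toMonoidHom) = Nat.card (stabilizer M a) :=
      Subgroup.card_map_of_injective φ.injective
    rcases psl_degree hodd (by have := Nat.odd_iff.mp hodd; omega) hco (by rw [hidx]; exact h.hn)
      (by rw [hidx, hcard, h.card_stab]; exact dvd_mul_right _ _) with h1 | ⟨h9, h6⟩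
    · exact Or.inr ⟨F, i1, i2, by omega, by rw [← hidx, h1], ⟨φ⟩⟩
    · exact Or.inl ⟨by rw [← hidx, h6], (Cfsg.Agent.S0254.result (F := F) h9).map φ.trans⟩
  · exfalso
    obtain ⟨f⟩ := f
    let φ : M ≃* alternatingGroup (Fin 7) :=
      ((QuotientGroup.quotientMulEquivOfEq hcore).trans QuotientGroup.quotientBot).symm.trans f
    have hM : Nat.card M = 2520 := by rw [Nat.card_congr φ.toEquiv, card_alt (r := 2520) (by rfl) (by norm_num)]
    have hfac := h.card_eq
    rw [hM] at hfac
    have hn := h.hn
    have hn2 := h.hn2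
    have hpos : 0 < Nat.card ↥(stabilizer M a ⊓ stabilizer M b) := Nat.card_pos
    have hle : Nat.card Ω * (Nat.card Ω - 1) ≤ 2520 := by rw [hfac]; exact Nat.le_mul_of_pos_right _ hpos
    have hn51 : Nat.card Ω ≤ 51 := by
      by_contra hlt
      have := Nat.mul_le_mul (show 52 ≤ Nat.card Ω by omega) (show 51 ≤ Nat.card Ω - 1 by omega)
      omega
    have hn' : Nat.card Ω = 6 ∨ Nat.card Ω = 10 := by
      have hall : ∀ i : Fin 52, i.val % 4 = 2 → 2 < i.val → i.val * (i.val - 1) ∣ 2520 → i.val = 6 ∨ i.val = 10 := by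
        decide +kernel
      exact hall ⟨Nat.card Ω, by omega⟩ hn hn2 ⟨_, hfac⟩
    rcases hn' with h6 | h10
    · have h1 := Nat.le_of_dvd (Nat.factorial_pos _) h.card_dvd_factorial
      rw [hM, h6] at h1
      norm_num [Nat.factorial] at h1
    · -- a seven-element centralises an involution of the two-point stabiliser
      set K := stabilizer M a ⊓ stabilizer M b
      rw [h10] at hfac
      have hK : Nat.card K = 28 := by change 2520 = 10 * (10 - 1) * Nat.card K at hfac; omega
      haveI : Fact (Nat.Prime 7) := ⟨by norm_num⟩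
      haveI : Fact (Nat.Prime 2) := ⟨Nat.prime_two⟩
      obtain ⟨P⟩ : Nonempty (Sylow 7 K) := inferInstance
      have hP : Nat.card (P : Subgroup K) = 7 := by
        rw [P.card_eq_multiplicity, hK, show (28 : ℕ) = 7 * 4 from rfl, Nat.factorization_mul (by norm_num) (by norm_num)]
        simp [Nat.Prime.factorization_self (show Nat.Prime 7 by norm_num),
          Nat.factorization_eq_zero_of_not_dvd (show ¬ 7 ∣ 4 by norm_num)]
      have hidx4 : (P : Subgroup K).index = 4 := by
        have := Subgroup.card_mul_index (P : Subgroup K)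
        rw [hP, hK] at this; omega
      have hs := card_sylow_modEq_one 7 K
      have hd : Nat.card (Sylow 7 K) ∣ 4 := hidx4 ▸ P.card_dvd_index
      have hle4 := Nat.le_of_dvd (by norm_num) hd
      have h1s : Nat.card (Sylow 7 K) = 1 := by
        have hp' : 0 < Nat.card (Sylow 7 K) := Nat.card_pos
        unfold Nat.ModEq at hs
        omega
      haveI : Subsingleton (Sylow 7 K) := (Nat.card_eq_one_iff_unique.mp h1s).1
      haveI : (P : Subgroup K).Normal := Sylow.normal_of_subsingleton P
      have hfact : Nat.card T = 4 := by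
        rw [h.card_T]
        change 2 ^ (Nat.card K).factorization 2 = 4
        rw [hK, show (28 : ℕ) = 2 ^ 2 * 7 by norm_num, Nat.factorization_mul (by norm_num) (by norm_num)]
        simp only [Finsupp.coe_add, Pi.add_apply]
        rw [Nat.Prime.factorization_pow Nat.prime_two, Finsupp.single_eq_same,
          Nat.factorization_eq_zero_of_not_dvd (show ¬ 2 ∣ 7 by norm_num)]
        norm_num
      let g : T →* MulAut (P : Subgroup K) := MulAut.conjNormal.comp (Subgroup.inclusion h.le_stab)
      haveI : IsCyclic (P : Subgroup K) := isCyclic_of_prime_card hP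
      have haut : Nat.card (MulAut (P : Subgroup K)) = 6 := by
        rw [IsCyclic.card_mulAut, hP]; decide
      have hker : g.ker ≠ ⊥ := by
        intro hb
        have := Subgroup.card_dvd_of_injective g ((MonoidHom.ker_eq_bot_iff g).mp hb)
        rw [hfact, haut] at this
        norm_num at this
      have h2 : 2 ∣ Nat.card g.ker := by
        obtain ⟨j, hj⟩ := (h.isPGroup.to_subgroup g.ker).exists_card_eq
        rw [hj]
        exact dvd_pow_self 2 fun e => hker (Subgroup.card_eq_one.mp (by rw [hj, e, pow_zero]))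
      obtain ⟨x, hx⟩ := exists_prime_orderOf_dvd_card' 2 h2
      obtain ⟨y, hy⟩ := exists_prime_orderOf_dvd_card' (G := (P : Subgroup K)) 7 (by rw [hP])
      have hc : ((x : T) : M) * ((y : K) : M) * ((x : T) : M)⁻¹ = ((y : K) : M) :=
        congrArg (fun z : (P : Subgroup K) => ((z : K) : M)) (DFunLike.congr_fun (MonoidHom.mem_ker.mp x.2) y)
      have hxo : orderOf ((x : T) : M) = 2 := by rw [Subgroup.orderOf_coe, Subgroup.orderOf_coe, hx]
      have hyo : orderOf ((y : K) : M) = 7 := by rw [Subgroup.orderOf_coe, Subgroup.orderOf_coe, hy]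
      have h14 : orderOf (((x : T) : M) * ((y : K) : M)) = 14 := by
        rw [(show Commute ((x : T) : M) ((y : K) : M) from mul_inv_eq_iff_eq_mul.mp hc).orderOf_mul_eq_mul_orderOf_of_coprime
          (by rw [hxo, hyo]; norm_num), hxo, hyo]
      exact no_fourteen (φ (((x : T) : M) * ((y : K) : M)) : alternatingGroup (Fin 7))
        (by rw [Subgroup.orderOf_coe, MulEquiv.orderOf_eq]; exact h14)

end CfsgLib.ONanTwo
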