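import Cfsg.Agent.Lib.ONanTwo.Perm.Pairs
import Cfsg.Agent.Lib.Walter.Ab.Main
import Cfsg.Agent.Lib.Walter.Main
import Cfsg.Agent.S0806
import Cfsg.Agent.S0343

/-!
No group of Janko–Ree type is doubly transitive of degree `2 mod 4`.

Blueprint: `blueprint/S3402.md`, part A.
-/

set_option autoImplicit false
set_option linter.unusedSectionVars false
set_option linter.style.haveILetI false

namespace CfsgLib.ONanTwo

open MulAction

universe u v

variable {M : Type u} [Group M] [Finite M] {Ω : Type v} [Finite Ω] [MulAction M Ω] {a b : Ω} {S : Sylow 2 M}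
  {T : Subgroup M}

local notation "PSL₂[" F "]" => Matrix.ProjectiveSpecialLinearGroup (Fin 2) F

/-- Ordered pairs of distinct points. -/
abbrev Off (X : Type*) : Type _ := {p : X × X // p.1 ≠ p.2}

theorem card_off (X : Type*) [Finite X] : Nat.card (Off X) = Nat.card X * (Nat.card X - 1) := by
  classical
  haveI := Fintype.ofFinite X
  rw [Nat.card_eq_fintype_card, Nat.card_eq_fintype_card, Fintype.card_subtype,
    show (Finset.univ.filter fun p : X × X => p.1 ≠ p.2) = (Finset.univ : Finset X).offDiag by ext p; simp,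
    Finset.offDiag_card, Finset.card_univ, Nat.mul_sub_one]

variable [FaithfulSMul M Ω] [IsSimpleGroup M]

theorem Sock.pair_bound (h : Sock a b S T) (hT4 : Nat.card T = 4) (hTc : IsMulCommutative T)
    (hexp : ∀ P : Subgroup M, IsPGroup 2 P → ∀ x ∈ P, x * x = 1) {t : M} (c : WalterAb.Co t) :
    Nat.card {e : Ω // t • e = e} * (Nat.card {e : Ω // t • e = e} - 1) ≤
      2 * Nat.card {z : PSL₂[c.F] // z ≠ 1 ∧ z * z = 1} := by
  classical
  haveI : Fact (Nat.Prime 2) := ⟨Nat.prime_two⟩
  set X := {e : Ω // t • e = e}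
  have key : ∀ p : Off X, ∃ v : {z : PSL₂[c.F] // z ≠ 1 ∧ z * z = 1},
      c.ι v.1 • p.1.1.1 = p.1.1.1 ∧ c.ι v.1 • p.1.2.1 = p.1.2.1 ∧
        ∀ e : X, c.ι v.1 • e.1 = e.1 → e = p.1.1 ∨ e = p.1.2 := by
    rintro ⟨⟨x, y⟩, hxy⟩
    obtain ⟨R, hR, hR4, htR, hRfix, hRc, hRF⟩ := h.exists_conj_T (P := Subgroup.zpowers t)
      (IsPGroup.of_card (n := 1) (by rw [Nat.card_zpowers, pow_one, c.ord]))
      (fun e => hxy (Subtype.ext e)) fun z hz => by
        obtain ⟨i, rfl⟩ := hz
        exact ⟨(stabilizer M x.1).zpow_mem x.2 i, (stabilizer M y.1).zpow_mem y.2 i⟩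
    rw [hT4] at hR4
    have htR' : t ∈ R := htR (Subgroup.mem_zpowers t)
    obtain ⟨y0, hy0, hy01, hy0t⟩ : ∃ y0 ∈ R, y0 ≠ 1 ∧ y0 ≠ t := by
      by_contra hh
      push Not at hh
      have : Nat.card R ≤ 2 := by
        refine le_of_le_of_eq (Nat.card_le_card_of_surjective
          (fun i : Fin 2 => if i = 0 then (1 : R) else ⟨t, htR'⟩) fun z => ?_) (Nat.card_fin 2)
        by_cases hz : (z : M) = 1
        · exact ⟨0, Subtype.ext (by simp [hz])⟩
        · exact ⟨1, Subtype.ext (by simp [hh z z.2 hz])⟩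
      omega
    have hcomm : y0 * t = t * y0 :=
      congrArg Subtype.val ((hRc hTc).1.comm ⟨y0, hy0⟩ ⟨t, htR'⟩)
    set w : Subgroup.centralizer ({t} : Set M) := ⟨y0, Subgroup.mem_centralizer_singleton_iff.mpr hcomm⟩
    have hv : c.ι (c.π w) ∈ R ∧ c.π w ≠ 1 := by
      refine ⟨?_, fun e => ?_⟩
      · rcases c.decomp w with e | e
        · exact e ▸ hy0
        · have e' : y0 = t * c.ι (c.π w) := e
          have h1 : c.ι (c.π w) = t * y0 := by rw [e', ← mul_assoc, c.tt, one_mul]
          exact h1 ▸ mul_mem htR' hy0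
      · rcases c.decomp w with e' | e' <;> change y0 = _ at e' <;> rw [e, map_one] at e'
        · exact hy01 e'
        · exact hy0t (e'.trans (mul_one t))
    have hv2 : c.π w * c.π w = 1 := by
      refine c.ι_inj ?_
      rw [map_mul, map_one]
      exact hexp R hR _ hv.1
    refine ⟨⟨c.π w, hv.2, hv2⟩, (hRfix _ hv.1).1, (hRfix _ hv.1).2, fun e he => ?_⟩
    refine (hRF e.1 (fix_of_four hR4 htR' hv.1 c.t_ne (fun e' => hv.2 (c.ι_inj (e'.trans (map_one c.ι).symm)))
      ?_ e.2 he)).imp Subtype.ext Subtype.ext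
    intro e'
    have h1 := c.π_ι (c.π w)
    rw [show (⟨c.ι (c.π w), c.ι_mem _⟩ : Subgroup.centralizer ({t} : Set M)) = c.tC from Subtype.ext e'.symm,
      c.π_t] at h1
    exact hv.2 h1.symm
  choose v hv1 hv2 hv3 using key
  haveI := Fintype.ofFinite X
  rw [← card_off X, show 2 * Nat.card {z : PSL₂[c.F] // z ≠ 1 ∧ z * z = 1} =
    Nat.card ({z : PSL₂[c.F] // z ≠ 1 ∧ z * z = 1} × Bool) by
      rw [Nat.card_prod, Nat.card_eq_fintype_card (α := Bool), Fintype.card_bool, mul_comm]]
  let ei := Fintype.equivFin X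
  refine Nat.card_le_card_of_injective (fun p => (v p, decide (ei p.1.1 < ei p.1.2))) fun p p' e => ?_
  simp only [Prod.mk.injEq, decide_eq_decide] at e
  obtain ⟨e1, e2⟩ := e
  have m1 := hv3 p p'.1.1 (e1 ▸ hv1 p')
  have m2 := hv3 p p'.1.2 (e1 ▸ hv2 p')
  rcases m1 with a1 | a1 <;> rcases m2 with a2 | a2
  · exact absurd (a1.trans a2.symm) p'.2
  · exact Subtype.ext (Prod.ext a1.symm a2.symm)
  · exfalso
    rw [a1, a2] at e2
    rcases lt_or_gt_of_ne (ei.injective.ne p.2) with h' | h'
    · exact lt_asymm h' (e2.mp h')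
    · exact lt_asymm h' (e2.mpr h')
  · exact absurd (a1.trans a2.symm) p'.2

/-- The fixed points of an involution of `S` and its centraliser: degree six and `q = 5`. -/
theorem Sock.fixed_six (h : Sock a b S T) (hJ : WalterAb.IsJR M) {t : M} (ht : t ∈ T) (ht1 : t ≠ 1) :
    Nat.card M = 175560 ∧ Nat.card (Subgroup.centralizer ({t} : Set M)) = 120 ∧
      Nat.card {e : Ω // t • e = e} = 6 := by
  classical
  haveI : Fact (Nat.Prime 2) := ⟨Nat.prime_two⟩
  have hexp : ∀ P : Subgroup M, IsPGroup 2 P → ∀ x ∈ P, x * x = 1 := fun P hP x hx => by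
    obtain ⟨Q, hQ⟩ := hP.exists_le_sylow
    exact (hJ.1 Q).2 x (hQ hx)
  have hcomm : ∀ P : Subgroup M, IsPGroup 2 P → ∀ x ∈ P, ∀ y ∈ P, x * y = y * x := fun P hP x hx y hy =>
    calc x * y = (x * y)⁻¹ := eq_inv_of_mul_eq_one_left (hexp P hP _ (mul_mem hx hy))
      _ = y⁻¹ * x⁻¹ := mul_inv_rev x y
      _ = y * x := by rw [inv_eq_of_mul_eq_one_left (hexp P hP x hx), inv_eq_of_mul_eq_one_left (hexp P hP y hy)]
  have hT4 : Nat.card T = 4 := by
    have := h.card_S
    rw [(hJ.1 S).1] at this
    omega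
  have hTc : IsMulCommutative T := ⟨⟨fun x y => Subtype.ext (hcomm T h.isPGroup x x.2 y y.2)⟩⟩
  have hto : orderOf t = 2 := orderOf_eq_prime (by rw [pow_two]; exact hexp T h.isPGroup t ht) ht1
  obtain ⟨F, iF, iFt, hq, ⟨e⟩⟩ := hJ.2 t hto
  let c : WalterAb.Co t := ⟨F, iF, iFt, (WalterAb.card_mod hq).1, (WalterAb.card_mod hq).2, hto, e⟩
  set X := {e : Ω // t • e = e}
  letI : MulAction PSL₂[c.F] X :=
    { smul := fun g x => ⟨c.ι g • x.1, by rw [← mul_smul, ← c.ι_comm, mul_smul, x.2]⟩
      one_smul := fun x => Subtype.ext (by show c.ι 1 • x.1 = x.1; rw [map_one, one_smul])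
      mul_smul := fun g g' x => Subtype.ext (by show c.ι (g * g') • x.1 = _; rw [map_mul, mul_smul]; rfl) }
  have hmove : ∀ x : X, stabilizer PSL₂[c.F] x ≠ ⊤ := fun x htop => by
    obtain ⟨s, hs, hsx⟩ := h.S_not_fix x.1
    obtain ⟨g, hg⟩ := c.decomp' (hcomm (S : Subgroup M) S.2 s hs t (h.le ht))
    have hfix : c.ι g • x.1 = x.1 := congrArg Subtype.val (show g • x = x from
      mem_stabilizer_iff.mp (htop ▸ Subgroup.mem_top g))
    rcases hg with rfl | rfl
    · exact hsx hfix
    · exact hsx (by rw [mul_smul, hfix, x.2])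
  have hidx : ∀ x : X, (stabilizer PSL₂[c.F] x).index ≤ Nat.card X := fun x => by
    rw [index_stabilizer, ← Nat.card_coe_set_eq]
    exact Nat.card_le_card_of_injective _ Subtype.val_injective
  have ha : t • a = a := h.fix_a ht
  have hk4 := h.parity (hexp T h.isPGroup t ht) ht1
  have hk : Nat.card X ≤ Fintype.card c.F + 1 := by
    have h1 := h.pair_bound hT4 hTc hexp c
    have h2 := two_mul_card_involutions_le (F := c.F) (Walter.two_ne_zero_of_mod c.hq)
    obtain ⟨m, hm⟩ : ∃ m, Nat.card X = m + 1 := ⟨Nat.card X - 1, by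
      have : 0 < Nat.card X := by haveI : Nonempty X := ⟨⟨a, ha⟩⟩; exact Nat.card_pos
      omega⟩
    have h3 := h1.trans h2
    change Nat.card X * (Nat.card X - 1) ≤ _ at h3
    rw [hm, Nat.add_sub_cancel] at h3
    rw [hm]
    by_contra hlt
    have hlt' : Fintype.card c.F + 1 ≤ m := by omega
    have h4 := Nat.mul_le_mul (show Fintype.card c.F + 1 ≤ m + 1 by omega) hlt'
    nlinarith
  have hcardC : Fintype.card F = 5 → Nat.card (Subgroup.centralizer ({t} : Set M)) = 120 := fun h5 => by
    rw [Nat.card_congr e.toEquiv, Nat.card_prod, Nat.card_eq_fintype_card (α := Multiplicative (ZMod 2)),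
      Fintype.card_multiplicative, ZMod.card]
    have h1 := DicksonFull.card_psl (F := F)
    rw [h5, show Nat.gcd 2 (5 - 1) = 2 from rfl, show 5 * (5 ^ 2 - 1) = 120 from rfl] at h1
    exact h1
  have h5 : Fintype.card F = 5 := by
    refine hq.resolve_right ?_
    rintro ⟨m, hm, hm'⟩
    have h27 : 27 ≤ Fintype.card c.F := by
      show 27 ≤ Fintype.card F
      rw [hm']
      exact le_trans (by norm_num : 27 ≤ 3 ^ 3) (Nat.pow_le_pow_right (by norm_num) (by omega))
    have h1 := (Cfsg.Agent.S0806.result (F := c.F) rfl (by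
      simp only [Finset.mem_insert, Finset.mem_singleton]; omega)).1 _ (hmove ⟨a, ha⟩)
    have h2 := hidx ⟨a, ha⟩
    have h4 : 9 ^ m % 4 = 1 := by rw [Nat.pow_mod]; norm_num
    change Nat.card X % 4 = 2 at hk4
    have e4 : Fintype.card c.F = 9 ^ m * 3 := by
      show Fintype.card F = _
      rw [hm', pow_succ, pow_mul]; norm_num
    omega
  have hM : Nat.card M = 175560 := by
    rcases Cfsg.Agent.S0343.result (fun P x y => Subtype.ext (hcomm P P.2 x x.2 y y.2)) (by omega) t hto ⟨e⟩ with
      ⟨m, hm, hm', -⟩ | ⟨-, -, hJ1⟩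
    · rw [h5] at hm'
      have : 27 ≤ 3 ^ (2 * m + 1) := le_trans (by norm_num : 27 ≤ 3 ^ 3) (Nat.pow_le_pow_right (by norm_num) (by omega))
      omega
    · exact hJ1
  refine ⟨hM, hcardC h5, ?_⟩
  have hk6 : Nat.card X ≤ 6 := hk.trans_eq (by show Fintype.card F + 1 = 6; omega)
  have hk2 : Nat.card X ≠ 2 := fun e2 => by
    have h1 := hidx ⟨a, ha⟩
    rw [e2] at h1
    set H := stabilizer PSL₂[c.F] (⟨a, ha⟩ : X) with hH
    have h0 : H.index ≠ 0 := Subgroup.index_ne_zero_of_finite
    have h1' : H.index ≠ 1 := fun e1 => hmove _ (Subgroup.index_eq_one.mp e1)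
    have hH2 : H.index = 2 := by omega
    haveI := Subgroup.normal_of_index_eq_two hH2
    haveI := c.psl_simple
    rcases IsSimpleGroup.eq_bot_or_eq_top_of_normal H inferInstance with e' | e'
    · rw [e', Subgroup.index_bot] at hH2
      have h5' := DicksonFull.card_psl (F := c.F)
      rw [hH2, show Fintype.card c.F = 5 from h5] at h5'
      norm_num at h5'
    · exact hmove _ e'
  change Nat.card X = 6
  change Nat.card X % 4 = 2 at hk4
  omega

/-- The count in a group of order 175560. -/
theorem no_janko (h : Sock a b S T) (hJ : WalterAb.IsJR M) : False := by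
  classical
  haveI : Fact (Nat.Prime 2) := ⟨Nat.prime_two⟩
  haveI := Fintype.ofFinite Ω
  haveI := Fintype.ofFinite M
  have hgood := WalterAb.IsJR.good hJ S
  have hexp := hgood.selfCent.sq
  have hT4 : Nat.card T = 4 := by
    have := h.card_S
    rw [(hJ.1 S).1] at this
    omega
  obtain ⟨t, ht, ht1⟩ : ∃ t ∈ T, t ≠ 1 := (Subgroup.bot_or_exists_ne_one T).resolve_left fun e => by
    rw [e, Subgroup.card_bot] at hT4; omega
  obtain ⟨hM, hC, hX⟩ := h.fixed_six hJ ht ht1
  set I := {s : M // s ≠ 1 ∧ s * s = 1}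
  have hI : ∀ s : I, ∃ g : M, g * t * g⁻¹ = s.1 := fun s => by
    obtain ⟨g, hg⟩ := h.inv_into s.2.2
    obtain ⟨k, -, htr⟩ := hgood.trans
    obtain ⟨i, hi⟩ := htr t (h.le ht) ht1 _ (h.le hg) fun e => s.2.1 (conj_eq_one_iff.mp e)
    refine ⟨g⁻¹ * k ^ i, ?_⟩
    calc g⁻¹ * k ^ i * t * (g⁻¹ * k ^ i)⁻¹ = g⁻¹ * (k ^ i * t * (k ^ i)⁻¹) * g := by group
      _ = s.1 := by rw [hi]; group
  have hcI : Nat.card I = 1463 := by
    have hI' : Nat.card I = (Subgroup.centralizer ({t} : Set M)).index := by
      rw [Subgroup.index_eq_card]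
      have hwd : ∀ g : M, g * t * g⁻¹ ≠ 1 ∧ g * t * g⁻¹ * (g * t * g⁻¹) = 1 := fun g =>
        ⟨fun e => ht1 (conj_eq_one_iff.mp e), by
          rw [show g * t * g⁻¹ * (g * t * g⁻¹) = g * (t * t) * g⁻¹ by group, hexp t (h.le ht), mul_one,
            mul_inv_cancel]⟩
      refine (Nat.card_congr (Equiv.ofBijective (Quotient.lift (fun g => (⟨g * t * g⁻¹, hwd g⟩ : I)) ?_) ⟨?_, ?_⟩)).symm
      · intro g g' hgg
        have hgg : g⁻¹ * g' ∈ Subgroup.centralizer ({t} : Set M) := QuotientGroup.leftRel_apply.mp hgg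
        rw [Subgroup.mem_centralizer_singleton_iff] at hgg
        refine Subtype.ext ?_
        calc g * t * g⁻¹ = g * (t * (g⁻¹ * g')) * g'⁻¹ := by group
          _ = g' * t * g'⁻¹ := by rw [← hgg]; group
      · intro x y
        induction x using Quotient.inductionOn with | _ g => ?_
        induction y using Quotient.inductionOn with | _ g' => ?_
        intro e
        have e' : g * t * g⁻¹ = g' * t * g'⁻¹ := congrArg Subtype.val e
        refine Quotient.sound ?_
        show (QuotientGroup.leftRel _).r g g'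
        rw [QuotientGroup.leftRel_apply, Subgroup.mem_centralizer_singleton_iff]
        calc g⁻¹ * g' * t = g⁻¹ * (g' * t * g'⁻¹) * g' := by group
          _ = t * (g⁻¹ * g') := by rw [← e']; group
      · intro s
        obtain ⟨g, hg⟩ := hI s
        exact ⟨Quotient.mk _ g, Subtype.ext hg⟩
    have e := Subgroup.card_mul_index (Subgroup.centralizer ({t} : Set M))
    rw [hC, hM, ← hI'] at e
    omega
  -- double counting
  let R : I → Ω × Ω → Prop := fun s p => s.1 • p.1 = p.1 ∧ s.1 • p.2 = p.2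
  have hA : ∀ s : I, Nat.card {p : Off Ω // R s p.1} = 30 := fun s => by
    obtain ⟨g, hg⟩ := hI s
    have hsX : Nat.card {e : Ω // s.1 • e = e} = 6 := by
      rw [← hX]
      refine Nat.card_congr (Equiv.subtypeEquiv (MulAction.toPerm g⁻¹) fun e => ?_)
      show s.1 • e = e ↔ t • g⁻¹ • e = g⁻¹ • e
      rw [← hg, mul_smul, mul_smul, eq_inv_smul_iff (g := g)]
    have e : {p : Off Ω // R s p.1} ≃ Off {e : Ω // s.1 • e = e} :=
      { toFun := fun p => ⟨(⟨p.1.1.1, p.2.1⟩, ⟨p.1.1.2, p.2.2⟩), fun e => p.1.2 (congrArg Subtype.val e)⟩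
        invFun := fun p => ⟨⟨(p.1.1.1, p.1.2.1), fun e => p.2 (Subtype.ext e)⟩, p.1.1.2, p.1.2.2⟩
        left_inv := fun _ => rfl
        right_inv := fun _ => rfl }
    rw [Nat.card_congr e, card_off, hsX]
  set l := Nat.card {s : I // R s (a, b)}
  have hB : ∀ p : Off Ω, Nat.card {s : I // R s p.1} = l := by
    rintro ⟨⟨x, y⟩, hxy⟩
    obtain ⟨g, hgx, hgy⟩ := h.two h.ne hxy
    let cj : I ≃ I :=
      { toFun := fun s => ⟨g * s.1 * g⁻¹, fun e => s.2.1 (conj_eq_one_iff.mp e), by
          rw [show g * s.1 * g⁻¹ * (g * s.1 * g⁻¹) = g * (s.1 * s.1) * g⁻¹ by group, s.2.2, mul_one, mul_inv_cancel]⟩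
        invFun := fun s => ⟨g⁻¹ * s.1 * g, fun e => s.2.1 (by
            rwa [← conj_eq_one_iff (a := g⁻¹), inv_inv]), by
          rw [show g⁻¹ * s.1 * g * (g⁻¹ * s.1 * g) = g⁻¹ * (s.1 * s.1) * g by group, s.2.2, mul_one, inv_mul_cancel]⟩
        left_inv := fun s => Subtype.ext (by group)
        right_inv := fun s => Subtype.ext (by group) }
    refine (Nat.card_congr (Equiv.subtypeEquiv cj fun s => ?_)).symm
    show s.1 • a = a ∧ s.1 • b = b ↔ (g * s.1 * g⁻¹) • x = x ∧ (g * s.1 * g⁻¹) • y = y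
    change g • a = x at hgx
    change g • b = y at hgy
    rw [mul_smul, mul_smul, mul_smul, mul_smul, ← hgx, ← hgy, inv_smul_smul, inv_smul_smul, smul_left_cancel_iff,
      smul_left_cancel_iff]
  have hsum : Nat.card Ω * (Nat.card Ω - 1) * l = 43890 := by
    have e : (Σ s : I, {p : Off Ω // R s p.1}) ≃ Σ p : Off Ω, {s : I // R s p.1} :=
      { toFun := fun x => ⟨x.2.1, x.1, x.2.2⟩
        invFun := fun x => ⟨x.2.1, x.1, x.2.2⟩
        left_inv := fun _ => rfl
        right_inv := fun _ => rfl }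
    have e' := Nat.card_congr e
    rw [Nat.card_sigma, Nat.card_sigma, Finset.sum_congr rfl fun s _ => hA s,
      Finset.sum_congr rfl fun p _ => hB p] at e'
    simp only [Finset.sum_const, smul_eq_mul, Finset.card_univ, ← Nat.card_eq_fintype_card, card_off, hcI] at e'
    rw [Nat.card_eq_fintype_card]
    simp only [Nat.card_eq_fintype_card] at e' ⊢
    omega
  have hl3 : 3 ≤ l := by
    have h3 : Nat.card {x : T // x ≠ 1} = 3 := by
      haveI := Fintype.ofFinite T
      rw [Nat.card_eq_fintype_card, Fintype.card_subtype_compl, Fintype.card_subtype_eq, ← Nat.card_eq_fintype_card,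
        hT4]
    rw [← h3]
    refine Nat.card_le_card_of_injective
      (fun x => (⟨⟨x.1.1, fun e => x.2 (Subtype.ext e), hexp _ (h.le x.1.2)⟩, h.fix_a x.1.2, h.fix_b x.1.2⟩ :
        {s : I // R s (a, b)})) fun x y e => Subtype.ext (Subtype.ext ?_)
    exact congrArg (fun z : {s : I // R s (a, b)} => z.1.1) e
  have hn := h.hn
  have hn2 := h.hn2
  set n := Nat.card Ω with hndef
  have hn121 : n ≤ 121 := by
    by_contra hlt
    have h1 := Nat.mul_le_mul (Nat.mul_le_mul (show 122 ≤ n by omega) (show 121 ≤ n - 1 by omega)) hl3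
    omega
  have hdvd : n * (n - 1) ∣ 43890 := ⟨l, hsum.symm⟩
  have hn' : n = 6 ∨ n = 22 := by
    have hall : ∀ i : Fin 122, i.val % 4 = 2 → 2 < i.val → i.val * (i.val - 1) ∣ 43890 → i.val = 6 ∨ i.val = 22 := by
      decide +kernel
    exact hall ⟨n, by omega⟩ hn hn2 hdvd
  rcases hn' with e6 | e22
  · have h1 : Nat.card M ∣ Nat.card (Equiv.Perm Ω) :=
      Subgroup.card_dvd_of_injective (toPermHom M Ω) toPerm_injective
    rw [hM, Nat.card_perm, hndef.symm.trans e6] at h1
    norm_num [Nat.factorial] at h1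
  · set K := stabilizer M a ⊓ stabilizer M b with hK
    have hK380 : Nat.card K = 380 := by
      have hpre : IsMultiplyPretransitive M Ω 2 := is_two_pretransitive_iff.mpr fun p q => h.two p q
      have h1 := Cfsg.Agent.S3401.card_stab_mul hpre h.ne
      haveI : IsPretransitive M Ω := ⟨h.trans⟩
      have h2 := index_stabilizer_of_transitive M (x := a)
      have h3 := Subgroup.card_mul_index (stabilizer M a)
      rw [hM, h2, h1, ← Nat.card_eq_fintype_card, ← hndef, e22] at h3
      change Nat.card ↥(stabilizer M a ⊓ stabilizer M b) = 380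
      omega
    haveI : Fact (Nat.Prime 19) := ⟨by norm_num⟩
    have hs := card_sylow_modEq_one 19 K
    obtain ⟨P⟩ : Nonempty (Sylow 19 K) := inferInstance
    have hP : Nat.card (P : Subgroup K) = 19 := by
      rw [P.card_eq_multiplicity, hK380]
      rw [show (380 : ℕ) = 19 * 20 from rfl, Nat.factorization_mul (by norm_num) (by norm_num)]
      simp [Nat.Prime.factorization_self (show Nat.Prime 19 by norm_num),
        Nat.factorization_eq_zero_of_not_dvd (show ¬ 19 ∣ 20 by norm_num)]
    have hidx20 : (P : Subgroup K).index = 20 := by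
      have := Subgroup.card_mul_index (P : Subgroup K)
      rw [hP, hK380] at this; omega
    have hd : Nat.card (Sylow 19 K) ∣ 20 := hidx20 ▸ P.card_dvd_index
    have h19 : ∀ x ∈ (P : Subgroup K), x ≠ 1 → orderOf x = 19 := fun x hx hx1 => by
      have h1 := Subgroup.orderOf_dvd_natCard _ hx
      rw [hP] at h1
      exact ((Nat.dvd_prime (by norm_num)).mp h1).resolve_left fun e => hx1 (orderOf_eq_one_iff.mp e)
    have hle20 := Nat.le_of_dvd (by norm_num) hd
    have hpos : 0 < Nat.card (Sylow 19 K) := Nat.card_pos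
    have hcases : Nat.card (Sylow 19 K) = 1 ∨ Nat.card (Sylow 19 K) = 20 := by
      unfold Nat.ModEq at hs
      omega
    rcases hcases with e1 | e20
    · -- `T` acts on a normal subgroup of order 19
      haveI : Subsingleton (Sylow 19 K) := (Nat.card_eq_one_iff_unique.mp e1).1
      haveI : (P : Subgroup K).Normal := Sylow.normal_of_subsingleton P
      let f : T →* MulAut (P : Subgroup K) := MulAut.conjNormal.comp (Subgroup.inclusion h.le_stab)
      haveI : IsCyclic (P : Subgroup K) := isCyclic_of_prime_card hP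
      have hcyc : IsCyclic (MulAut (P : Subgroup K)) := by
        haveI : IsCyclic (ZMod 19)ˣ := ZMod.isCyclic_units_prime (by norm_num)
        let e1 := IsCyclic.mulAutMulEquiv (P : Subgroup K)
        rw [hP] at e1
        exact isCyclic_of_surjective e1.symm.toMonoidHom e1.symm.surjective
      have hker : ∃ x : T, x ≠ 1 ∧ f x = 1 := by
        by_contra hh
        push Not at hh
        have hinj : Function.Injective f := (injective_iff_map_eq_one f).mpr fun x hx => by
          by_contra hx1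
          exact hh x hx1 hx
        haveI := hcyc
        haveI : IsCyclic T := isCyclic_of_injective f hinj
        obtain ⟨g, hg⟩ := IsCyclic.exists_generator (α := T)
        have h4 : Nat.card T ≤ 2 := by
          rw [← orderOf_eq_card_of_forall_mem_zpowers hg]
          exact Nat.le_of_dvd (by norm_num) (orderOf_dvd_of_pow_eq_one (by
            rw [pow_two]; exact Subtype.ext (hexp _ (h.le g.2))))
        omega
      obtain ⟨⟨x, hx⟩, hx1, hfx⟩ := hker
      obtain ⟨y, hy, hy1⟩ := (Subgroup.bot_or_exists_ne_one (P : Subgroup K)).resolve_left fun e => by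
        rw [e, Subgroup.card_bot] at hP; omega
      have hc := DFunLike.congr_fun hfx ⟨y, hy⟩
      have hc' : x * (y : M) * x⁻¹ = y := congrArg (fun z : (P : Subgroup K) => ((z : K) : M)) hc
      have hyC : (y : M) ∈ Subgroup.centralizer ({x} : Set M) :=
        Subgroup.mem_centralizer_singleton_iff.mpr (mul_inv_eq_iff_eq_mul.mp hc').symm
      have hdv := Subgroup.orderOf_dvd_natCard _ hyC
      rw [(h.fixed_six hJ hx fun e => hx1 (Subtype.ext e)).2.1, Subgroup.orderOf_coe, h19 y hy hy1] at hdv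
      omega
    · -- too many elements
      let A := {x : K // x ≠ 1 ∧ x ^ 19 = 1}
      let B := {x : K // x ≠ 1 ∧ x * x = 1}
      have hcA : 20 * 18 ≤ Nat.card A := by
        have h18 : ∀ Q : Sylow 19 K, Nat.card {x : (Q : Subgroup K) // x ≠ 1} = 18 := fun Q => by
          haveI := Fintype.ofFinite (Q : Subgroup K)
          rw [Nat.card_eq_fintype_card, Fintype.card_subtype_compl, Fintype.card_subtype_eq,
            ← Nat.card_eq_fintype_card, show Nat.card (Q : Subgroup K) = 19 by
              rw [Q.card_eq_multiplicity, ← P.card_eq_multiplicity, hP]]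
        have hQ : ∀ (Q : Sylow 19 K) (x : (Q : Subgroup K)), x ≠ 1 → Subgroup.zpowers (x : K) = (Q : Subgroup K) :=
          fun Q x hx => by
            have hc : Nat.card (Q : Subgroup K) = 19 := by rw [Q.card_eq_multiplicity, ← P.card_eq_multiplicity, hP]
            refine Subgroup.eq_of_le_of_card_ge (Subgroup.zpowers_le.mpr x.2) ?_
            rw [Nat.card_zpowers, Subgroup.orderOf_coe, hc]
            have h1 := orderOf_dvd_natCard x
            rw [hc] at h1
            exact (((Nat.dvd_prime (by norm_num)).mp h1).resolve_left fun e => hx (orderOf_eq_one_iff.mp e)).ge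
        haveI := Fintype.ofFinite (Sylow 19 K)
        calc 20 * 18 = Nat.card (Σ Q : Sylow 19 K, {x : (Q : Subgroup K) // x ≠ 1}) := by
              rw [Nat.card_sigma, Finset.sum_congr rfl fun Q _ => h18 Q, Finset.sum_const, smul_eq_mul,
                Finset.card_univ, ← Nat.card_eq_fintype_card, e20]
          _ ≤ Nat.card A := by
              refine Nat.card_le_card_of_injective (fun z => (⟨(z.2.1 : K), fun e => z.2.2 (Subtype.ext e), ?_⟩ : A)) ?_
              · have h1 : (z.2.1 : (z.1 : Subgroup K)) ^ Nat.card (z.1 : Subgroup K) = 1 := pow_card_eq_one'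
                rw [show Nat.card (z.1 : Subgroup K) = 19 by
                  rw [z.1.card_eq_multiplicity, ← P.card_eq_multiplicity, hP]] at h1
                exact_mod_cast congrArg Subtype.val h1
              · rintro ⟨Q, x, hx⟩ ⟨Q', x', hx'⟩ e
                have e' : (x : K) = x' := congrArg (fun w : A => w.1) e
                have hQQ : Q = Q' := Sylow.ext (by rw [← hQ Q x hx, ← hQ Q' x' hx', e'])
                subst hQQ
                obtain rfl : x = x' := Subtype.ext e'
                rfl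
      have hcB : Nat.card B = l := Nat.card_congr
        { toFun := fun x => ⟨⟨x.1.1, fun e => x.2.1 (Subtype.ext e), congrArg Subtype.val x.2.2⟩, x.1.2.1, x.1.2.2⟩
          invFun := fun s => ⟨⟨s.1.1, s.2.1, s.2.2⟩, fun e => s.1.2.1 (congrArg Subtype.val e), Subtype.ext s.1.2.2⟩
          left_inv := fun _ => rfl
          right_inv := fun _ => rfl }
      have hAB : Nat.card A + Nat.card B ≤ Nat.card K := by
        rw [← Nat.card_sum]
        refine Nat.card_le_card_of_injective (Sum.elim Subtype.val Subtype.val) ?_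
        rintro (⟨x, hx1, hx⟩ | ⟨x, hx1, hx⟩) (⟨y, hy1, hy⟩ | ⟨y, hy1, hy⟩) e <;> simp only [Sum.elim_inl, Sum.elim_inr] at e <;>
          subst e
        · rfl
        · exfalso
          refine hx1 ?_
          rw [show (19 : ℕ) = 2 * 9 + 1 from rfl, pow_succ, pow_mul, pow_two, hy, one_pow, one_mul] at hx
          exact hx
        · exfalso
          refine hy1 ?_
          rw [show (19 : ℕ) = 2 * 9 + 1 from rfl, pow_succ, pow_mul, pow_two, hx, one_pow, one_mul] at hy
          exact hy
        · rfl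
      rw [e22] at hsum
      omega

end CfsgLib.ONanTwo
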