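import Cfsg.Agent.Lib.ONanTwo.Perm.Dihedral
import Cfsg.Agent.Lib.ONanTwo.Perm.Janko

/-!
The centraliser of an involution on its fixed points, and the count of involutions against pairs of points.

Blueprint: `blueprint/S3402.md`, part C.
-/

set_option autoImplicit false
set_option linter.unusedSectionVars false
set_option linter.style.haveILetI false

namespace CfsgLib.ONanTwo

open MulAction

universe u v

variable {M : Type u} [Group M] [Finite M] {Ω : Type v} [Finite Ω] [MulAction M Ω] [FaithfulSMul M Ω]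
  [IsSimpleGroup M] {a b : Ω} {S : Sylow 2 M} {T : Subgroup M}

/-- All involutions fixing `a` and `b` are conjugate there. -/
def PairOne (a b : Ω) (T : Subgroup M) (t : M) : Prop :=
  ∀ t' ∈ T, t' ≠ 1 → t' * t' = 1 → ∃ g : M, g • a = a ∧ g • b = b ∧ g * t' * g⁻¹ = t

theorem Sock.pair_into (h : Sock a b S T) {t : M} (hone : PairOne a b T t) {s : M} (hs : s * s = 1) (hs1 : s ≠ 1)
    {x y : Ω} (hxy : x ≠ y) (hsx : s • x = x) (hsy : s • y = y) :
    ∃ g : M, g • x = a ∧ g • y = b ∧ g * s * g⁻¹ = t := by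
  haveI : Fact (Nat.Prime 2) := ⟨Nat.prime_two⟩
  obtain ⟨g, g1, g2, hg⟩ := h.into (P := Subgroup.zpowers s) (IsPGroup.of_card (n := 1) (by
      rw [Nat.card_zpowers, pow_one]; exact orderOf_eq_prime (by rw [pow_two, hs]) hs1)) hxy fun z hz => by
    obtain ⟨i, rfl⟩ := hz
    exact ⟨(stabilizer M x).zpow_mem hsx i, (stabilizer M y).zpow_mem hsy i⟩
  obtain ⟨k, k1, k2, hk⟩ := hone _ (hg s (Subgroup.mem_zpowers s)) (fun e => hs1 (conj_eq_one_iff.mp e)) (by
    rw [show g * s * g⁻¹ * (g * s * g⁻¹) = g * (s * s) * g⁻¹ by group, hs, mul_one, mul_inv_cancel])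
  exact ⟨k * g, by rw [mul_smul, g1, k1], by rw [mul_smul, g2, k2], by rw [← hk]; group⟩

/-- The centraliser is doubly transitive on the fixed points. -/
theorem Sock.fixed_two (h : Sock a b S T) {t : M} (ht2 : t * t = 1) (ht1 : t ≠ 1) (hone : PairOne a b T t)
    {x y x' y' : Ω} (hxy : x ≠ y) (hxy' : x' ≠ y') (hx : t • x = x) (hy : t • y = y) (hx' : t • x' = x')
    (hy' : t • y' = y') : ∃ g ∈ Subgroup.centralizer ({t} : Set M), g • x = x' ∧ g • y = y' := by
  obtain ⟨g, g1, g2, g3⟩ := h.pair_into hone ht2 ht1 hxy hx hy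
  obtain ⟨g', g1', g2', g3'⟩ := h.pair_into hone ht2 ht1 hxy' hx' hy'
  refine ⟨g'⁻¹ * g, Subgroup.mem_centralizer_singleton_iff.mpr ?_,
    by rw [mul_smul, g1, inv_smul_eq_iff, g1'], by rw [mul_smul, g2, inv_smul_eq_iff, g2']⟩
  calc g'⁻¹ * g * t = g'⁻¹ * (g * t * g⁻¹) * g := by group
    _ = g'⁻¹ * (g' * t * g'⁻¹) * g := by rw [g3, g3']
    _ = t * (g'⁻¹ * g) := by group

/-- Involutions against pairs of points. -/
theorem Sock.count (h : Sock a b S T) {t : M} (ht : t ∈ T) (ht2 : t * t = 1) (ht1 : t ≠ 1)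
    (hall : ∀ s : M, s * s = 1 → s ≠ 1 → ∃ g : M, g * t * g⁻¹ = s) :
    ∃ l, 0 < l ∧ Nat.card Ω * (Nat.card Ω - 1) * l = (Subgroup.centralizer ({t} : Set M)).index *
      (Nat.card {e : Ω // t • e = e} * (Nat.card {e : Ω // t • e = e} - 1)) := by
  classical
  haveI := Fintype.ofFinite Ω
  haveI := Fintype.ofFinite M
  set I := {s : M // s ≠ 1 ∧ s * s = 1}
  have hI : ∀ s : I, ∃ g : M, g * t * g⁻¹ = s.1 := fun s => hall s.1 s.2.2 s.2.1
  have hI' : Nat.card I = (Subgroup.centralizer ({t} : Set M)).index := by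
    rw [Subgroup.index_eq_card]
    have hwd : ∀ g : M, g * t * g⁻¹ ≠ 1 ∧ g * t * g⁻¹ * (g * t * g⁻¹) = 1 := fun g =>
      ⟨fun e => ht1 (conj_eq_one_iff.mp e), by
        rw [show g * t * g⁻¹ * (g * t * g⁻¹) = g * (t * t) * g⁻¹ by group, ht2, mul_one, mul_inv_cancel]⟩
    refine (Nat.card_congr (Equiv.ofBijective (Quotient.lift (fun g => (⟨g * t * g⁻¹, hwd g⟩ : I)) ?_) ⟨?_, ?_⟩)).symm
    · intro g g' hgg
      have hgg : g⁻¹ * g' ∈ Subgroup.centralizer ({t} : Set M) := QuotientGroup.leftRel_apply.mp hgg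
      rw [Subgroup.mem_centralizer_singleton_iff] at hgg
      refine Subtype.ext ?_
      calc g * t * g⁻¹ = g * (t * (g⁻¹ * g')) * g'⁻¹ := by group
        _ = g' * t * g'⁻¹ := by rw [← hgg]; group
    · intro x y
      induction x using Quotient.inductionOn with | _ g => ?_
      induction y using Quotient.inductionOn with | _ g' => ?_
      intro e
      have e' : g * t * g⁻¹ = g' * t * g'⁻¹ := congrArg Subtype.val e
      refine Quotient.sound ?_
      show (QuotientGroup.leftRel _).r g g'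
      rw [QuotientGroup.leftRel_apply, Subgroup.mem_centralizer_singleton_iff]
      calc g⁻¹ * g' * t = g⁻¹ * (g' * t * g'⁻¹) * g' := by group
        _ = t * (g⁻¹ * g') := by rw [← e']; group
    · intro s
      obtain ⟨g, hg⟩ := hI s
      exact ⟨Quotient.mk _ g, Subtype.ext hg⟩
  let R : I → Ω × Ω → Prop := fun s p => s.1 • p.1 = p.1 ∧ s.1 • p.2 = p.2
  set k := Nat.card {e : Ω // t • e = e}
  have hA : ∀ s : I, Nat.card {p : Off Ω // R s p.1} = k * (k - 1) := fun s => by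
    obtain ⟨g, hg⟩ := hI s
    have hsX : Nat.card {e : Ω // s.1 • e = e} = k := by
      refine Nat.card_congr (Equiv.subtypeEquiv (MulAction.toPerm g⁻¹) fun e => ?_)
      show s.1 • e = e ↔ t • g⁻¹ • e = g⁻¹ • e
      rw [← hg, mul_smul, mul_smul, eq_inv_smul_iff (g := g)]
    have e : {p : Off Ω // R s p.1} ≃ Off {e : Ω // s.1 • e = e} :=
      { toFun := fun p => ⟨(⟨p.1.1.1, p.2.1⟩, ⟨p.1.1.2, p.2.2⟩), fun e => p.1.2 (congrArg Subtype.val e)⟩
        invFun := fun p => ⟨⟨(p.1.1.1, p.1.2.1), fun e => p.2 (Subtype.ext e)⟩, p.1.1.2, p.1.2.2⟩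
        left_inv := fun _ => rfl
        right_inv := fun _ => rfl }
    rw [Nat.card_congr e, card_off, hsX]
  set l := Nat.card {s : I // R s (a, b)}
  have hB : ∀ p : Off Ω, Nat.card {s : I // R s p.1} = l := by
    rintro ⟨⟨x, y⟩, hxy⟩
    obtain ⟨g, hgx, hgy⟩ := h.two h.ne hxy
    change g • a = x at hgx
    change g • b = y at hgy
    let cj : I ≃ I :=
      { toFun := fun s => ⟨g * s.1 * g⁻¹, fun e => s.2.1 (conj_eq_one_iff.mp e), by
          rw [show g * s.1 * g⁻¹ * (g * s.1 * g⁻¹) = g * (s.1 * s.1) * g⁻¹ by group, s.2.2, mul_one, mul_inv_cancel]⟩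
        invFun := fun s => ⟨g⁻¹ * s.1 * g, fun e => s.2.1 (by
            rwa [← conj_eq_one_iff (a := g⁻¹), inv_inv]), by
          rw [show g⁻¹ * s.1 * g * (g⁻¹ * s.1 * g) = g⁻¹ * (s.1 * s.1) * g by group, s.2.2, mul_one, inv_mul_cancel]⟩
        left_inv := fun s => Subtype.ext (by group)
        right_inv := fun s => Subtype.ext (by group) }
    refine (Nat.card_congr (Equiv.subtypeEquiv cj fun s => ?_)).symm
    show s.1 • a = a ∧ s.1 • b = b ↔ (g * s.1 * g⁻¹) • x = x ∧ (g * s.1 * g⁻¹) • y = y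
    rw [mul_smul, mul_smul, mul_smul, mul_smul, ← hgx, ← hgy, inv_smul_smul, inv_smul_smul, smul_left_cancel_iff,
      smul_left_cancel_iff]
  haveI : Nonempty {s : I // R s (a, b)} := ⟨⟨⟨t, ht1, ht2⟩, h.fix_a ht, h.fix_b ht⟩⟩
  refine ⟨l, Nat.card_pos, ?_⟩
  have e : (Σ s : I, {p : Off Ω // R s p.1}) ≃ Σ p : Off Ω, {s : I // R s p.1} :=
    { toFun := fun x => ⟨x.2.1, x.1, x.2.2⟩
      invFun := fun x => ⟨x.2.1, x.1, x.2.2⟩
      left_inv := fun _ => rfl
      right_inv := fun _ => rfl }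
  have e' := Nat.card_congr e
  rw [Nat.card_sigma, Nat.card_sigma, Finset.sum_congr rfl fun s _ => hA s,
    Finset.sum_congr rfl fun p _ => hB p] at e'
  simp only [Finset.sum_const, smul_eq_mul, Finset.card_univ, ← Nat.card_eq_fintype_card, card_off, hI'] at e'
  exact e'.symm

end CfsgLib.ONanTwo
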