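import Cfsg.Agent.Lib.ONanTwo.Perm.Fixed
import Cfsg.Agent.Lib.ONanTwo.Perm.CentDegree
import Cfsg.Agent.Lib.ONanTwo.Perm.Arith
import Cfsg.Agent.S1219
import Cfsg.Agent.S2140

/-!
`L₃(q)`, `q` odd, has no doubly transitive action of degree `2 mod 4`.

Blueprint: `blueprint/S3402.md`, part C.
-/

set_option autoImplicit false
set_option linter.unusedSectionVars false
set_option linter.style.haveILetI false

namespace CfsgLib.ONanTwo

open MulAction

universe u v

/-- Centralisers along an isomorphism. -/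
noncomputable def centEquiv {G H : Type*} [Group G] [Group H] (e : G ≃* H) (t : G) :
    Subgroup.centralizer ({t} : Set G) ≃* Subgroup.centralizer ({e t} : Set H) :=
  (e.subgroupMap _).trans (MulEquiv.subgroupCongr (by
    ext x
    refine Subgroup.mem_map_equiv.trans ?_
    rw [Subgroup.mem_centralizer_singleton_iff, Subgroup.mem_centralizer_singleton_iff]
    constructor
    · intro h
      have := congrArg e h
      rwa [map_mul, map_mul, MulEquiv.apply_symm_apply] at this
    · intro h
      refine e.injective ?_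
      rwa [map_mul, map_mul, MulEquiv.apply_symm_apply]))

/-- In `GL(2, F)` the subgroup generated by `SL` and the scalars has index at most two. -/
theorem gl_two_index {F : Type*} [Field F] [Fintype F] :
    ((Matrix.SpecialLinearGroup.toGL : Matrix.SpecialLinearGroup (Fin 2) F →* GL (Fin 2) F).range ⊔
      Subgroup.center (GL (Fin 2) F)).index ≤ 2 := by
  classical
  set L := (Matrix.SpecialLinearGroup.toGL : Matrix.SpecialLinearGroup (Fin 2) F →* GL (Fin 2) F).range ⊔
    Subgroup.center (GL (Fin 2) F)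
  let det : GL (Fin 2) F →* Fˣ := Matrix.GeneralLinearGroup.det
  have hsurj : Function.Surjective det := SLCard.det_surjective (by norm_num)
  have hker : det.ker ≤ L := (SLCard.range_toGL (F := F) (n := 2)).ge.trans le_sup_left
  rw [← Subgroup.index_map_eq L hsurj hker]
  have hle : (powMonoidHom 2 : Fˣ →* Fˣ).range ≤ L.map det := by
    rintro _ ⟨u, rfl⟩
    refine ⟨Matrix.GeneralLinearGroup.scalar (Fin 2) u, Subgroup.mem_sup_right ?_, ?_⟩
    · rw [Matrix.GeneralLinearGroup.center_eq_range_scalar]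
      exact ⟨u, rfl⟩
    · refine Units.ext ?_
      show (Matrix.scalar (Fin 2) (u : F)).det = ((powMonoidHom 2 u : Fˣ) : F)
      simp [Matrix.scalar_apply]
  refine (Nat.le_of_dvd (Nat.pos_of_ne_zero Subgroup.index_ne_zero_of_finite) (Subgroup.index_dvd_of_le hle)).trans ?_
  rw [IsCyclic.index_powMonoidHom_range]
  exact Nat.le_of_dvd two_pos (Nat.gcd_dvd_right _ _)

variable {M : Type u} [Group M] [Finite M] {Ω : Type v} [Finite Ω] [MulAction M Ω] [FaithfulSMul M Ω]
  [IsSimpleGroup M] {a b : Ω} {S : Sylow 2 M} {T : Subgroup M}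

/-- The fixed points are in the orbit of a pair. -/
theorem Sock.fixed_dvd (h : Sock a b S T) {t : M} (ht : t ∈ T) (ht2 : t * t = 1) (ht1 : t ≠ 1)
    (hone : PairOne a b T t) :
    Nat.card {e : Ω // t • e = e} * (Nat.card {e : Ω // t • e = e} - 1) ∣
      Nat.card (Subgroup.centralizer ({t} : Set M)) := by
  classical
  set C := Subgroup.centralizer ({t} : Set M)
  rw [← card_off]
  let act : MulAction C (Off {e : Ω // t • e = e}) :=
    { smul := fun g p => ⟨(⟨(g : M) • p.1.1.1, by
          rw [← mul_smul, ← Subgroup.mem_centralizer_singleton_iff.mp g.2, mul_smul, p.1.1.2]⟩,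
        ⟨(g : M) • p.1.2.1, by rw [← mul_smul, ← Subgroup.mem_centralizer_singleton_iff.mp g.2, mul_smul, p.1.2.2]⟩),
        fun e => p.2 (Subtype.ext (MulAction.injective (g : M) (congrArg Subtype.val e)))⟩
      one_smul := fun p => Subtype.ext (Prod.ext (Subtype.ext (one_smul M _)) (Subtype.ext (one_smul M _)))
      mul_smul := fun g k p => Subtype.ext (Prod.ext (Subtype.ext (mul_smul (g : M) (k : M) _))
        (Subtype.ext (mul_smul (g : M) (k : M) _))) }
  let p₀ : Off {e : Ω // t • e = e} := ⟨(⟨a, h.fix_a ht⟩, ⟨b, h.fix_b ht⟩), fun e => h.ne (congrArg Subtype.val e)⟩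
  haveI : IsPretransitive C (Off {e : Ω // t • e = e}) := ⟨fun p p' => by
    obtain ⟨g, hg, g1, g2⟩ := h.fixed_two ht2 ht1 hone (fun e => p.2 (Subtype.ext e)) (fun e => p'.2 (Subtype.ext e))
      p.1.1.2 p.1.2.2 p'.1.1.2 p'.1.2.2
    exact ⟨⟨g, hg⟩, Subtype.ext (Prod.ext (Subtype.ext g1) (Subtype.ext g2))⟩⟩
  rw [← index_stabilizer_of_transitive C (x := p₀)]
  exact Subgroup.index_dvd_card _

/-- The number of fixed points, from a model of the centraliser. -/
theorem Sock.fixed_degree (h : Sock a b S T) {t : M} (ht2 : t * t = 1) (ht1 : t ≠ 1) (hone : PairOne a b T t)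
    {K : Type*} [Field K] [Fintype K] (hodd : Odd (Fintype.card K)) (h5 : 5 ≤ Fintype.card K)
    (φ : Matrix.SpecialLinearGroup (Fin 2) K →* Subgroup.centralizer ({t} : Set M)) (hn : φ.range.Normal)
    (hcen : ∀ z ∈ Subgroup.center (Matrix.SpecialLinearGroup (Fin 2) K),
      φ z ∈ Subgroup.center (Subgroup.centralizer ({t} : Set M)))
    (hidx : (φ.range ⊔ Subgroup.center (Subgroup.centralizer ({t} : Set M))).index ≤ 2) :
    Nat.card {e : Ω // t • e = e} = 2 ∨ Nat.card {e : Ω // t • e = e} = Fintype.card K + 1 ∨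
      (Fintype.card K = 9 ∧ Nat.card {e : Ω // t • e = e} = 6) := by
  letI : MulAction (Subgroup.centralizer ({t} : Set M)) {e : Ω // t • e = e} :=
    { smul := fun g x => ⟨(g : M) • x.1, by
        rw [← mul_smul, ← Subgroup.mem_centralizer_singleton_iff.mp g.2, mul_smul, x.2]⟩
      one_smul := fun x => Subtype.ext (one_smul M x.1)
      mul_smul := fun g k x => Subtype.ext (mul_smul (g : M) (k : M) x.1) }
  haveI := hn
  refine cent_degree hodd h5 φ hcen hidx (fun {c d e f} hcd hef => ?_) (h.parity ht2 ht1)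
  obtain ⟨g, hg, g1, g2⟩ := h.fixed_two ht2 ht1 hone (fun e' => hcd (Subtype.ext e')) (fun e' => hef (Subtype.ext e'))
    c.2 d.2 e.2 f.2
  exact ⟨⟨g, hg⟩, Subtype.ext g1, Subtype.ext g2⟩

/-- `L₃(q)` does not occur. -/
theorem Sock.l3_false (h : Sock a b S T) {F : Type*} [Field F] [Fintype F] (hodd : Odd (Fintype.card F))
    (e : M ≃* Matrix.ProjectiveSpecialLinearGroup (Fin 3) F) {t : M} (ht : t ∈ T) (ht2 : t * t = 1) (ht1 : t ≠ 1)
    (hone : PairOne a b T t) (hall : ∀ s : M, s * s = 1 → s ≠ 1 → ∃ g : M, g * t * g⁻¹ = s) : False := by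
  classical
  haveI : Fact (Nat.Prime 2) := ⟨Nat.prime_two⟩
  obtain ⟨f, hp, hqf⟩ := FiniteField.card F (ringChar F)
  set q := Fintype.card F with hq
  have hq3 : 3 ≤ q := by
    have := Fintype.one_lt_card (α := F); have := Nat.odd_iff.mp hodd; omega
  obtain ⟨j, hj⟩ : ∃ j, q = j + 3 := ⟨q - 3, by omega⟩
  obtain ⟨Z, hZn, hZc, hZd, ⟨e₂⟩⟩ := Cfsg.Agent.S1219.result hodd (e t)
    (by rw [MulEquiv.orderOf_eq]; exact orderOf_eq_prime (by rw [pow_two]; exact ht2) ht1)
  haveI := hZn
  let ε : GL (Fin 2) F ⧸ Z ≃* Subgroup.centralizer ({t} : Set M) := ((centEquiv e t).trans e₂).symm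
  let ψ : GL (Fin 2) F →* Subgroup.centralizer ({t} : Set M) := ε.toMonoidHom.comp (QuotientGroup.mk' Z)
  have hψ : Function.Surjective ψ := ε.surjective.comp (QuotientGroup.mk'_surjective Z)
  -- orders
  set r := q ^ 2 + q + 1 with hr
  have hcardC : Nat.gcd (q - 1) 3 * Nat.card (Subgroup.centralizer ({t} : Set M)) = (q - 1) * (q * (q ^ 2 - 1)) := by
    rw [← hZd, ← Nat.card_congr ε.toEquiv, ← Subgroup.index_eq_card, Subgroup.card_mul_index,
      ← SLCard.card_units_mul_card_SL (by norm_num), SLCard.card_SL_two]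
  have hcardM : Nat.gcd (q - 1) 3 * Nat.card M = (q - 1) * (q * (q ^ 2 - 1)) * (q ^ 2 * r) := by
    have h1 := SLCard.card_units_mul_card_SL (F := F) (n := 3) (by norm_num)
    rw [Matrix.card_GL_field, Fin.prod_univ_three, ← SLCard.gcd_mul_card_PSL (by norm_num), ← hq, Nat.gcd_comm,
      ← Nat.card_congr e.toEquiv] at h1
    simp only [Fin.val_zero, Fin.val_one, Fin.val_two, pow_zero, pow_one] at h1
    refine Nat.eq_of_mul_eq_mul_left (show 0 < q - 1 by omega) ?_
    rw [h1, hr, hj, show j + 3 - 1 = j + 2 by omega,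
      show (j + 3) ^ 3 - 1 = (j + 2) * ((j + 3) ^ 2 + (j + 3) + 1) by
        rw [Nat.sub_eq_iff_eq_add (Nat.one_le_pow _ _ (by omega))]; ring,
      show (j + 3) ^ 2 - 1 = (j + 2) * (j + 4) by
        rw [Nat.sub_eq_iff_eq_add (Nat.one_le_pow _ _ (by omega))]; ring,
      show (j + 3) ^ 3 - (j + 3) = (j + 3) * ((j + 2) * (j + 4)) by
        rw [Nat.sub_eq_iff_eq_add (Nat.le_self_pow (by norm_num) _)]; ring,
      show (j + 3) ^ 3 - (j + 3) ^ 2 = (j + 3) ^ 2 * (j + 2) by
        rw [Nat.sub_eq_iff_eq_add (Nat.pow_le_pow_right (by omega) (by norm_num))]; ring]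
    ring
  have hi : (Subgroup.centralizer ({t} : Set M)).index = q ^ 2 * r := by
    rw [← Subgroup.card_mul_index (Subgroup.centralizer ({t} : Set M)), ← mul_assoc, hcardC] at hcardM
    refine Nat.eq_of_mul_eq_mul_left ?_ hcardM
    rw [hj, show j + 3 - 1 = j + 2 by omega,
      show (j + 3) ^ 2 - 1 = (j + 2) * (j + 4) by
        rw [Nat.sub_eq_iff_eq_add (Nat.one_le_pow _ _ (by omega))]; ring]
    positivity
  -- the fixed points
  set k := Nat.card {x : Ω // t • x = x} with hk
  have hkdvd : k * (k - 1) ∣ q * (q + 1) := by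
    have hpar : k % 4 = 2 := h.parity ht2 ht1
    have hk2 : k = 2 → k * (k - 1) ∣ q * (q + 1) := fun e' => by
      rw [e']
      exact even_iff_two_dvd.mp (Nat.even_mul_succ_self q)
    rcases Nat.lt_or_ge q 5 with h5 | h5
    · refine hk2 ?_
      have hq' : q = 3 := by have := Nat.odd_iff.mp hodd; omega
      have h48 : k * (k - 1) ∣ 48 := by
        have h1 : Nat.card (Subgroup.centralizer ({t} : Set M)) = 48 := by
          rw [hq'] at hcardC; norm_num at hcardC; omega
        exact h1 ▸ h.fixed_dvd ht ht2 ht1 hone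
      have hk8 : k ≤ 8 := by
        by_contra hlt
        have := Nat.le_of_dvd (by norm_num) h48
        have := Nat.mul_le_mul (show 9 ≤ k by omega) (show 8 ≤ k - 1 by omega)
        omega
      interval_cases k <;> revert hpar h48 <;> decide
    · let φ : Matrix.SpecialLinearGroup (Fin 2) F →* Subgroup.centralizer ({t} : Set M) :=
        ψ.comp Matrix.SpecialLinearGroup.toGL
      have hrange : φ.range = (Matrix.SpecialLinearGroup.toGL :
          Matrix.SpecialLinearGroup (Fin 2) F →* GL (Fin 2) F).range.map ψ := MonoidHom.range_comp _ _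
      have hcenZ : (Subgroup.center (GL (Fin 2) F)).map ψ ≤ Subgroup.center _ := by
        rintro _ ⟨z, hz, rfl⟩
        refine Subgroup.mem_center_iff.mpr fun g => ?_
        obtain ⟨g, rfl⟩ := hψ g
        rw [← map_mul, ← map_mul, Subgroup.mem_center_iff.mp hz g]
      rcases h.fixed_degree ht2 ht1 hone hodd h5 φ
        (by
          rw [hrange]
          refine Subgroup.Normal.map ?_ ψ hψ
          rw [SLCard.range_toGL]
          exact MonoidHom.normal_ker _)
        (fun z hz => hcenZ ⟨Matrix.SpecialLinearGroup.toGL z, by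
          rw [Matrix.GeneralLinearGroup.center_eq_range_scalar]
          obtain ⟨u, -, hu⟩ := Matrix.SpecialLinearGroup.mem_center_iff.mp hz
          have hu0 : u ≠ 0 := fun h0 => by
            have hdet := z.2
            rw [← hu, h0] at hdet
            simp [Matrix.scalar_apply] at hdet
          exact ⟨Units.mk0 u hu0, Units.ext hu⟩, rfl⟩)
        (by
          refine le_trans (Nat.le_of_dvd (Nat.pos_of_ne_zero Subgroup.index_ne_zero_of_finite)
            ((Subgroup.index_dvd_of_le (sup_le_sup_left hcenZ _)).trans ?_)) (gl_two_index (F := F))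
          rw [hrange, ← Subgroup.map_sup]
          exact Subgroup.index_map_dvd _ hψ) with e' | e' | ⟨e9, e'⟩
      · exact hk2 e'
      · change k = q + 1 at e'
        rw [e', Nat.add_sub_cancel, mul_comm]
      · change k = 6 at e'
        change q = 9 at e9
        rw [e', e9]
        norm_num
  -- the degree
  have hn : q ^ 2 + q + 1 < Nat.card Ω := by
    have h1 := (Cfsg.Agent.S2140.result (F := F) rfl 3 le_rfl (by omega)).1
      ((stabilizer M a).map e.toMonoidHom) (fun e' => h.isCoatom_stab.1 (by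
        rw [← Subgroup.comap_map_eq_self_of_injective (f := e.toMonoidHom) e.injective (stabilizer M a), e',
          Subgroup.comap_top]))
    rw [Subgroup.index_map_of_bijective e.bijective, h.index_stab, ← hq,
      show (q ^ 3 - 1) / (q - 1) = q ^ 2 + q + 1 by
        rw [show q ^ 3 - 1 = (q - 1) * (q ^ 2 + q + 1) by
          rw [hj, show j + 3 - 1 = j + 2 by omega, Nat.sub_eq_iff_eq_add (Nat.one_le_pow _ _ (by omega))]; ring,
          Nat.mul_div_cancel_left _ (by omega)]] at h1
    refine lt_of_le_of_ne h1 fun e' => ?_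
    have := h.hn
    have hs : (q ^ 2 + q + 1) % 2 = 1 := by
      have h2 : Even (q * (q + 1)) := Nat.even_mul_succ_self q
      rw [show q ^ 2 + q + 1 = q * (q + 1) + 1 by ring]
      obtain ⟨w, hw⟩ := h2
      omega
    omega
  obtain ⟨l, -, hl⟩ := h.count ht ht2 ht1 hall
  refine l3_arith (p := ringChar F) hp (fun e2 => ?_) f.pos (Nat.even_iff.mpr (by have := h.hn; omega))
    (hqf ▸ hn) ?_
  · rw [hqf, e2, Nat.odd_iff, Nat.pow_mod] at hodd
    simp [zero_pow f.pos.ne'] at hodd
  · rw [← hqf, ← hr]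
    refine (Dvd.intro l hl).trans ?_
    rw [hi]
    exact (Nat.mul_dvd_mul_left _ hkdvd).trans ⟨1, by ring⟩

end CfsgLib.ONanTwo
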