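import Cfsg.Agent.Lib.ONanTwo.Perm.Abelian
import Cfsg.Agent.Lib.CharPLocal
import Cfsg.Agent.S3224

/-!
A special involution in `T` makes the Sylow 2-subgroup of the socle dihedral or quasi-dihedral.

Blueprint: `blueprint/S3402.md`, part B.
-/

set_option autoImplicit false
set_option linter.unusedSectionVars false
set_option linter.style.haveILetI false

namespace CfsgLib.ONanTwo

open MulAction

universe u v

variable {G : Type u} [Group G] [Finite G] {Ω : Type v} [Finite Ω] [MulAction G Ω] {a b : Ω} {S₀ : Sylow 2 G}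
  {T₀ : Subgroup G}

/-- A semiregular 2-group on `2 mod 4` points has order at most two. -/
theorem card_le_two_of_free {D : Type*} [Group D] [Finite D] (hD : IsPGroup 2 D) {X : Type*} [Finite X]
    [MulAction D X] (hX : Nat.card X % 4 = 2) (hfree : ∀ x : X, stabilizer D x = ⊥) : Nat.card D ≤ 2 := by
  haveI : Fact (Nat.Prime 2) := ⟨Nat.prime_two⟩
  obtain ⟨k, hk⟩ := hD.exists_card_eq
  have h1 := Nat.card_congr (selfEquivOrbitsQuotientProd hfree)
  rw [Nat.card_prod, hk] at h1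
  rw [hk]
  refine Nat.pow_le_pow_right (show 0 < 2 by norm_num) (show k ≤ 1 from ?_)
  by_contra hlt
  have h2 : 4 ∣ Nat.card X :=
    h1 ▸ dvd_mul_of_dvd_right (show 2 ^ 2 ∣ 2 ^ k from pow_dvd_pow 2 (by omega)) _
  omega

/-- A 2-group normalising `T₀` permutes `a` and `b`. -/
theorem Sock.perm_ab (h : Sock a b S₀ T₀) {s : G} (hs : ∀ x ∈ T₀, s⁻¹ * x * s ∈ T₀) :
    (s • a = a ∧ s • b = b) ∨ (s • a = b ∧ s • b = a) := by
  have key : ∀ c, (∀ t ∈ T₀, t • c = c) → s • c = a ∨ s • c = b := fun c hc => h.fix_T fun t ht => by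
    have h1 := hc _ (hs t ht)
    rw [mul_smul, mul_smul, inv_smul_eq_iff] at h1
    exact h1
  rcases key a fun t ht => h.fix_a ht with e | e <;> rcases key b fun t ht => h.fix_b ht with e' | e'
  · exact absurd (MulAction.injective s (e.trans e'.symm)) h.ne
  · exact Or.inl ⟨e, e'⟩
  · exact Or.inr ⟨e, e'⟩
  · exact absurd (MulAction.injective s (e.trans e'.symm)) h.ne

theorem Sock.normal_T (h : Sock a b S₀ T₀) : ∀ s ∈ (S₀ : Subgroup G), ∀ x ∈ T₀, s⁻¹ * x * s ∈ T₀ := by
  intro s hs x hx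
  haveI := Subgroup.normal_of_index_eq_two h.idx
  exact (Subgroup.mem_normalizer_iff''.mp
    ((Subgroup.normal_subgroupOf_iff_le_normalizer h.le).1 inferInstance hs) x).mp hx

/-- The setting passes to a doubly transitive normal subgroup. -/
theorem Sock.restrict (h : Sock a b S₀ T₀) (M : Subgroup G) [M.Normal]
    (two : ∀ {c d e f : Ω}, c ≠ d → e ≠ f → ∃ g : M, g • c = e ∧ g • d = f) {S : Sylow 2 M}
    (hS : (S : Subgroup M).map M.subtype = (S₀ : Subgroup G) ⊓ M) : Sock a b S (T₀.subgroupOf M) := by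
  haveI : Fact (Nat.Prime 2) := ⟨Nat.prime_two⟩
  have hmemS : ∀ {x : M}, x ∈ (S : Subgroup M) ↔ (x : G) ∈ (S₀ : Subgroup G) := fun {x} =>
    ⟨fun hx => (hS ▸ Subgroup.mem_map_of_mem M.subtype hx : (x : G) ∈ (S₀ : Subgroup G) ⊓ M).1, fun hx => by
      obtain ⟨y, hy, e⟩ : (x : G) ∈ (S : Subgroup M).map M.subtype := hS.symm ▸ ⟨hx, x.2⟩
      rwa [← (Subtype.ext e : y = x)]⟩
  have hle : T₀.subgroupOf M ≤ (S : Subgroup M) := fun x hx => hmemS.mpr (h.le hx)
  have hstab : T₀.subgroupOf M ≤ stabilizer M a ⊓ stabilizer M b := fun x hx => ⟨h.fix_a hx, h.fix_b hx⟩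
  refine ⟨two, h.hn, h.hn2, h.ne, hstab, hle, ?_⟩
  -- the index is at most two
  let φ : (S : Subgroup M) →* (S₀ : Subgroup G) :=
    { toFun := fun x => ⟨((x : M) : G), hmemS.mp x.2⟩
      map_one' := rfl
      map_mul' := fun _ _ => rfl }
  haveI := Subgroup.normal_of_index_eq_two h.idx
  have hi : ((T₀.subgroupOf M).subgroupOf (S : Subgroup M)).index ∣ 2 := by
    rw [show (T₀.subgroupOf M).subgroupOf (S : Subgroup M) = (T₀.subgroupOf (S₀ : Subgroup G)).comap φ from rfl,
      Subgroup.index_comap]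
    exact (Subgroup.relIndex_dvd_index_of_normal _ _).trans h.idx.dvd
  -- and the order is at most half the order of `S`
  obtain ⟨j, hj⟩ := (h.isPGroup.comap_of_injective M.subtype M.subtype_injective).exists_card_eq
  change Nat.card (T₀.subgroupOf M) = 2 ^ j at hj
  have hjle : j ≤ (Nat.card ↥(stabilizer M a ⊓ stabilizer M b)).factorization 2 :=
    (Nat.prime_two.pow_dvd_iff_le_factorization Nat.card_pos.ne').mp (hj ▸ Subgroup.card_dvd_of_le hstab)
  have hc := Subgroup.card_mul_index ((T₀.subgroupOf M).subgroupOf (S : Subgroup M))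
  rw [Nat.card_congr (Subgroup.subgroupOfEquivOfLe hle).toEquiv, hj, S.card_eq_multiplicity,
    factorization_card two h.hn h.ne] at hc
  rcases (Nat.dvd_prime Nat.prime_two).mp hi with e | e
  · rw [e, mul_one] at hc
    have := Nat.pow_right_injective le_rfl hc
    omega
  · exact e

variable [FaithfulSMul G Ω]

/-- The special involution may be taken central in the Sylow subgroup, and its fixed points meet the fixed points of
no conjugate with different fixed points. -/
theorem Sock.exists_central_special (h : Sock a b S₀ T₀) {u : G} (hu : u ∈ T₀) (hu1 : u ≠ 1)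
    (hspec : ∀ x ∈ T₀, x ≠ 1 → ∀ c : Ω, x • c = c → u • c = c) :
    ∃ z ∈ T₀, z * z = 1 ∧ z ≠ 1 ∧ (∀ s ∈ (S₀ : Subgroup G), s * z = z * s) ∧
      ∀ x ∈ T₀, x ≠ 1 → ∀ c : Ω, x • c = c → z • c = c := by
  classical
  haveI : Fact (Nat.Prime 2) := ⟨Nat.prime_two⟩
  have hΔ : ∀ s ∈ (S₀ : Subgroup G), ∀ c : Ω, u • c = c → u • s • c = s • c := by
    intro s hs c hc
    have hmem : s * u * s⁻¹ ∈ T₀ := by simpa using h.normal_T s⁻¹ (inv_mem hs) u hu
    exact hspec _ hmem (fun e => hu1 (conj_eq_one_iff.mp e)) _ (by rw [mul_smul, mul_smul, inv_smul_smul, hc])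
  let K : Subgroup G :=
    { carrier := {x | x ∈ T₀ ∧ ∀ c : Ω, u • c = c → x • c = c}
      one_mem' := ⟨T₀.one_mem, fun c _ => one_smul G c⟩
      mul_mem' := fun {x y} hx hy => ⟨mul_mem hx.1 hy.1, fun c hc => by rw [mul_smul, hy.2 c hc, hx.2 c hc]⟩
      inv_mem' := fun {x} hx => ⟨inv_mem hx.1, fun c hc => inv_smul_eq_iff.mpr (hx.2 c hc).symm⟩ }
  have hKu : u ∈ K := ⟨hu, fun c hc => hc⟩
  have hKS : K ≤ (S₀ : Subgroup G) := fun x hx => h.le hx.1
  haveI hn : (K.subgroupOf (S₀ : Subgroup G)).Normal := ⟨fun x hx s => by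
    refine ⟨?_, fun c hc => ?_⟩
    · show (s : G) * (x : G) * (s : G)⁻¹ ∈ T₀
      simpa using h.normal_T (s : G)⁻¹ (inv_mem s.2) x hx.1
    · show ((s : G) * (x : G) * (s : G)⁻¹) • c = c
      have hxc : (x : G) • (s : G)⁻¹ • c = (s : G)⁻¹ • c := hx.2 _ (hΔ _ (inv_mem s.2) c hc)
      rw [mul_smul, mul_smul, hxc, smul_inv_smul]⟩
  letI : MulAction (S₀ : Subgroup G) (K.subgroupOf (S₀ : Subgroup G)) :=
    MulAction.compHom _ (MulAut.conjNormal (G := (S₀ : Subgroup G)) (H := K.subgroupOf (S₀ : Subgroup G)))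
  have h2K : 2 ∣ Nat.card (K.subgroupOf (S₀ : Subgroup G)) := by
    obtain ⟨k, hk⟩ := (S₀.2.to_subgroup (K.subgroupOf (S₀ : Subgroup G))).exists_card_eq
    rw [hk]
    refine dvd_pow_self 2 fun e => hu1 ?_
    rw [e, pow_zero, Nat.card_eq_one_iff_unique] at hk
    haveI := hk.1
    exact congrArg (fun w : K.subgroupOf (S₀ : Subgroup G) => ((w : (S₀ : Subgroup G)) : G))
      (Subsingleton.elim (⟨⟨u, hKS hKu⟩, hKu⟩ : K.subgroupOf (S₀ : Subgroup G)) 1)
  obtain ⟨w, hw, hw1⟩ := S₀.2.exists_fixed_point_of_prime_dvd_card_of_fixed_point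
    (K.subgroupOf (S₀ : Subgroup G)) h2K (a := 1) fun s => map_one (MulAut.conjNormal s)
  have hcomm : ∀ s ∈ (S₀ : Subgroup G), s * ((w : (S₀ : Subgroup G)) : G) = ((w : (S₀ : Subgroup G)) : G) * s := by
    intro s hs
    have h1 := congrArg (fun z : K.subgroupOf (S₀ : Subgroup G) => ((z : (S₀ : Subgroup G)) : G)) (hw ⟨s, hs⟩)
    exact mul_inv_eq_iff_eq_mul.mp h1
  obtain ⟨j, hj⟩ := IsPGroup.iff_orderOf.mp (h.isPGroup) ⟨_, w.2.1⟩
  have hj0 : j ≠ 0 := fun e => hw1 (Subtype.ext (Subtype.ext (by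
    rw [e, pow_zero, orderOf_eq_one_iff] at hj
    exact (congrArg Subtype.val hj).symm)))
  rw [Subgroup.orderOf_mk] at hj
  change orderOf ((w : (S₀ : Subgroup G)) : G) = 2 ^ j at hj
  set z := ((w : (S₀ : Subgroup G)) : G) ^ 2 ^ (j - 1) with hz
  have hzK : z ∈ K := pow_mem w.2 _
  have hzo : orderOf z = 2 := by
    rw [hz, orderOf_pow, hj, Nat.gcd_eq_right (pow_dvd_pow 2 (Nat.sub_le j 1)), Nat.pow_div (by omega) two_pos,
      show j - (j - 1) = 1 by omega, pow_one]
  refine ⟨z, hzK.1, by rw [← pow_two, ← hzo, pow_orderOf_eq_one], fun e => by simp [e] at hzo,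
    fun s hs => (Commute.pow_right (hcomm s hs) _).eq, fun x hx hx1 c hc => hzK.2 c (hspec x hx hx1 c hc)⟩

/-- The Sylow 2-subgroup of the socle when `T₀` contains a special involution. -/
theorem Sock.special_types (h : Sock a b S₀ T₀) (M : Subgroup G) [hMn : M.Normal] [IsSimpleGroup M]
    (hna : ¬ IsMulCommutative M) (two : ∀ {c d e f : Ω}, c ≠ d → e ≠ f → ∃ g : M, g • c = e ∧ g • d = f)
    {u : G} (hu : u ∈ T₀) (hu1 : u ≠ 1) (hspec : ∀ x ∈ T₀, x ≠ 1 → ∀ c : Ω, x • c = c → u • c = c) :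
    ∃ S : Sylow 2 M, Sock a b S (T₀.subgroupOf M) ∧
      (∃ w : M, w ∈ (S : Subgroup M) ∧ w * w = 1 ∧ w ∉ T₀.subgroupOf M) ∧
      ((∃ n : ℕ, 2 ≤ n ∧ Nonempty ((S : Subgroup M) ≃* DihedralGroup n)) ∨
        Cfsg.IsQuasiDihedral (S : Subgroup M)) := by
  classical
  haveI : Fact (Nat.Prime 2) := ⟨Nat.prime_two⟩
  obtain ⟨z, hz, hz2, hz1, hzc, hsp⟩ := h.exists_central_special hu hu1 hspec
  haveI : FaithfulSMul M Ω := ⟨fun {x y} hxy => Subtype.ext (FaithfulSMul.eq_of_smul_eq_smul (α := Ω) hxy)⟩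
  obtain ⟨S, hS⟩ := CharPLocal.exists_sylow_subnormal S₀ hMn.isSubnormal
  have hmemS : ∀ {x : M}, x ∈ (S : Subgroup M) ↔ (x : G) ∈ (S₀ : Subgroup G) := fun {x} =>
    ⟨fun hx => (hS ▸ Subgroup.mem_map_of_mem M.subtype hx : (x : G) ∈ (S₀ : Subgroup G) ⊓ M).1, fun hx => by
      obtain ⟨y, hy, e⟩ : (x : G) ∈ (S : Subgroup M).map M.subtype := hS.symm ▸ ⟨hx, x.2⟩
      rwa [← (Subtype.ext e : y = x)]⟩
  -- the setting for the socle
  obtain ⟨R, hR, hRc⟩ := Cfsg.Agent.S3401.exists_sub (stabilizer M a ⊓ stabilizer M b)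
  obtain ⟨S₁, hM⟩ := exists_sock two h.hn h.hn2 h.ne R hR hRc
  have hcardS : Nat.card (S : Subgroup M) = 2 * Nat.card R := by
    rw [← hM.card_S, S.card_eq_multiplicity, S₁.card_eq_multiplicity]
  -- the setwise stabiliser of the pair
  let K : Subgroup M :=
    { carrier := {g | (g • a = a ∧ g • b = b) ∨ (g • a = b ∧ g • b = a)}
      one_mem' := Or.inl ⟨one_smul M a, one_smul M b⟩
      mul_mem' := by
        rintro g g' (⟨g1, g2⟩ | ⟨g1, g2⟩) (⟨g1', g2'⟩ | ⟨g1', g2'⟩)
        · exact Or.inl ⟨by rw [mul_smul, g1', g1], by rw [mul_smul, g2', g2]⟩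
        · exact Or.inr ⟨by rw [mul_smul, g1', g2], by rw [mul_smul, g2', g1]⟩
        · exact Or.inr ⟨by rw [mul_smul, g1', g1], by rw [mul_smul, g2', g2]⟩
        · exact Or.inl ⟨by rw [mul_smul, g1', g2], by rw [mul_smul, g2', g1]⟩
      inv_mem' := by
        rintro g (⟨g1, g2⟩ | ⟨g1, g2⟩)
        · exact Or.inl ⟨inv_smul_eq_iff.mpr g1.symm, inv_smul_eq_iff.mpr g2.symm⟩
        · exact Or.inr ⟨inv_smul_eq_iff.mpr g2.symm, inv_smul_eq_iff.mpr g1.symm⟩ }
  have hSK : (S : Subgroup M) ≤ K := fun x hx => h.perm_ab (h.normal_T x (hmemS.mp hx))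
  -- a pair interchanged by `z`
  obtain ⟨c, hcd⟩ : ∃ c : Ω, z • c ≠ c := by
    by_contra hh
    push Not at hh
    exact hz1 (FaithfulSMul.eq_of_smul_eq_smul (α := Ω) fun c => (hh c).trans (one_smul G c).symm)
  set d := z • c with hd
  have hzd : z • d = c := by rw [hd, ← mul_smul, hz2, one_smul]
  obtain ⟨g₀, hg0a, hg0b⟩ := two h.ne hcd.symm
  let σ : M →* G := M.subtype
  letI : MulAction K G := MulAction.compHom G ((MulAut.conj (G := G)).comp (σ.comp K.subtype))
  set O := MulAction.orbit K z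
  have hodd : ¬ 2 ∣ Nat.card O := by
    rw [Nat.card_coe_set_eq, ← index_stabilizer]
    have hle : (S : Subgroup M).subgroupOf K ≤ stabilizer K z := fun x hx => by
      show ((x : M) : G) * z * ((x : M) : G)⁻¹ = z
      have hxz : ((x : M) : G) * z = z * ((x : M) : G) := hzc _ (hmemS.mp hx)
      rw [hxz, mul_inv_cancel_right]
    intro h2
    have h3 : ((S : Subgroup M).subgroupOf K).index ∣ (S : Subgroup M).index :=
      ⟨K.index, (Subgroup.relIndex_mul_index hSK).symm⟩
    exact S.not_dvd_index (h2.trans ((Subgroup.index_dvd_of_le hle).trans h3))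
  -- the involutions conjugate to `z` attached to the pair
  set Y := {x : G | ∃ g : M, ((g • a = c ∧ g • b = d) ∨ (g • a = d ∧ g • b = c)) ∧ x = (g : G) * z * (g : G)⁻¹}
  have hY : Y = (fun x => (g₀ : G) * x * (g₀ : G)⁻¹) '' O := by
    ext x
    constructor
    · rintro ⟨g, hg, rfl⟩
      refine ⟨_, ⟨⟨g₀⁻¹ * g, ?_⟩, rfl⟩, ?_⟩
      · rcases hg with ⟨g1, g2⟩ | ⟨g1, g2⟩
        · exact Or.inl ⟨by rw [mul_smul, g1, ← hg0a, inv_smul_smul], by rw [mul_smul, g2, ← hg0b, inv_smul_smul]⟩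
        · exact Or.inr ⟨by rw [mul_smul, g1, ← hg0b, inv_smul_smul], by rw [mul_smul, g2, ← hg0a, inv_smul_smul]⟩
      · show (g₀ : G) * (((g₀⁻¹ * g : M) : G) * z * ((g₀⁻¹ * g : M) : G)⁻¹) * (g₀ : G)⁻¹ = _
        rw [Subgroup.coe_mul, InvMemClass.coe_inv]
        group
    · rintro ⟨_, ⟨⟨k, hk⟩, rfl⟩, rfl⟩
      refine ⟨g₀ * k, ?_, ?_⟩
      · rcases hk with ⟨k1, k2⟩ | ⟨k1, k2⟩
        · exact Or.inl ⟨by rw [mul_smul, k1, hg0a], by rw [mul_smul, k2, hg0b]⟩
        · exact Or.inr ⟨by rw [mul_smul, k1, hg0b], by rw [mul_smul, k2, hg0a]⟩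
      · show (g₀ : G) * ((k : G) * z * (k : G)⁻¹) * (g₀ : G)⁻¹ = _
        rw [Subgroup.coe_mul]
        group
  have hYodd : ¬ 2 ∣ Nat.card Y := by
    rw [hY, Nat.card_image_of_injective fun x y e => mul_left_cancel (mul_right_cancel e)]
    exact hodd
  have hYz : ∀ x ∈ Y, z * x * z⁻¹ ∈ Y := by
    rintro x ⟨g, hg, rfl⟩
    refine ⟨⟨z * g * z⁻¹, hMn.conj_mem _ g.2 z⟩, ?_, ?_⟩
    · have hza : z⁻¹ • a = a := inv_smul_eq_iff.mpr (h.fix_a hz).symm
      have hzb : z⁻¹ • b = b := inv_smul_eq_iff.mpr (h.fix_b hz).symm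
      show ((z * g * z⁻¹) • a = c ∧ (z * g * z⁻¹) • b = d) ∨ ((z * g * z⁻¹) • a = d ∧ (z * g * z⁻¹) • b = c)
      rw [mul_smul, mul_smul, hza, mul_smul, mul_smul, hzb]
      rcases hg with ⟨g1, g2⟩ | ⟨g1, g2⟩ <;> change (g : G) • a = _ at g1 <;> change (g : G) • b = _ at g2
      · exact Or.inr ⟨by rw [g1], by rw [g2, hzd]⟩
      · exact Or.inl ⟨by rw [g1, hzd], by rw [g2]⟩
    · show z * ((g : G) * z * (g : G)⁻¹) * z⁻¹ = z * g * z⁻¹ * z * (z * g * z⁻¹)⁻¹
      group
  obtain ⟨v, ⟨g, hg, hv⟩, hvz⟩ : ∃ v ∈ Y, z * v * z⁻¹ = v := by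
    haveI := Fintype.ofFinite Y
    let f : Equiv.Perm Y :=
      { toFun := fun x => ⟨_, hYz x x.2⟩
        invFun := fun x => ⟨_, hYz x x.2⟩
        left_inv := fun x => Subtype.ext (by
          show z * (z * (x : G) * z⁻¹) * z⁻¹ = x
          rw [show z * (z * (x : G) * z⁻¹) * z⁻¹ = z * z * x * (z * z)⁻¹ by group, hz2, one_mul, inv_one, mul_one])
        right_inv := fun x => Subtype.ext (by
          show z * (z * (x : G) * z⁻¹) * z⁻¹ = x
          rw [show z * (z * (x : G) * z⁻¹) * z⁻¹ = z * z * x * (z * z)⁻¹ by group, hz2, one_mul, inv_one, mul_one]) }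
    have hf : f ^ 2 ^ 1 = 1 := by
      rw [pow_one, pow_two]
      exact Equiv.ext fun x => f.left_inv x
    obtain ⟨x, hx⟩ := Equiv.Perm.exists_fixed_point_of_prime (by rwa [← Nat.card_eq_fintype_card]) hf
    exact ⟨x, x.2, congrArg Subtype.val hx⟩
  have hv2 : v * v = 1 := by
    rw [hv, show (g : G) * z * (g : G)⁻¹ * ((g : G) * z * (g : G)⁻¹) = g * (z * z) * (g : G)⁻¹ by group, hz2,
      mul_one, mul_inv_cancel]
  have hvc : v • c = c := by
    rw [hv]
    rcases hg with ⟨g1, -⟩ | ⟨-, g2⟩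
    · rw [← g1]; show ((g : G) * z * (g : G)⁻¹) • (g : G) • a = (g : G) • a
      rw [mul_smul, mul_smul, inv_smul_smul, h.fix_a hz]
    · rw [← g2]; show ((g : G) * z * (g : G)⁻¹) • (g : G) • b = (g : G) • b
      rw [mul_smul, mul_smul, inv_smul_smul, h.fix_b hz]
  have hzv : z * v = v * z := mul_inv_eq_iff_eq_mul.mp hvz
  -- conjugates of `z` with a common fixed point have the same fixed points
  have hsame : ∀ e : Ω, z • e = e → v • e = e → False := by
    intro e hze hve
    let P : Subgroup G := Subgroup.closure {z, v}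
    have hP : IsPGroup 2 P := by
      refine fun x => ⟨1, Subtype.ext ?_⟩
      have hcomm : ∀ x ∈ P, x * x = 1 ∧ z * x = x * z ∧ v * x = x * v := by
        intro x hx
        induction hx using Subgroup.closure_induction with
        | mem y hy =>
          rcases hy with rfl | rfl
          · exact ⟨hz2, rfl, hzv.symm⟩
          · exact ⟨hv2, hzv, rfl⟩
        | one => simp
        | mul y y' hy hy' ihy ihy' =>
          obtain ⟨y1, y2, y3⟩ := ihy
          obtain ⟨y1', y2', y3'⟩ := ihy'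
          have hyy : y * y' = y' * y := by
            refine Subgroup.closure_induction (p := fun w _ => w * y' = y' * w) ?_ ?_ ?_ ?_ hy
            · rintro w (rfl | rfl); exacts [y2', y3']
            · simp
            · intro p q _ _ hp hq; rw [mul_assoc, hq, ← mul_assoc, hp, mul_assoc]
            · intro p _ hp; exact (Commute.inv_left hp).eq
          refine ⟨?_, by rw [← mul_assoc, y2, mul_assoc, y2', ← mul_assoc],
            by rw [← mul_assoc, y3, mul_assoc, y3', ← mul_assoc]⟩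
          calc y * y' * (y * y') = y * (y' * y) * y' := by group
            _ = y * y * (y' * y') := by rw [← hyy]; group
            _ = 1 := by rw [y1, y1', one_mul]
        | inv y _ ihy => rw [inv_eq_of_mul_eq_one_left ihy.1]; exact ihy
      rw [pow_one, pow_two]; exact (hcomm x x.2).1
    have hPe : ∀ x ∈ P, x • e = e := fun x hx =>
      (Subgroup.closure_le (stabilizer G e)).mpr (by rintro w (rfl | rfl); exacts [hze, hve]) hx
    obtain ⟨f, hf, hef⟩ := hP.exists_fixed_point_of_prime_dvd_card_of_fixed_point Ω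
      (by have := h.hn; omega) (a := e) fun x => hPe x x.2
    obtain ⟨k, -, -, hk⟩ := h.into hP hef fun x hx => ⟨hPe x hx, hf ⟨x, hx⟩⟩
    have incl : ∀ y ∈ P, y ≠ 1 → ∀ q : Ω, y • q = q → z • k • q = k • q := fun y hy hy1 q hq =>
      hsp _ (hk y hy) (fun e' => hy1 (conj_eq_one_iff.mp e')) _ (by rw [mul_smul, mul_smul, inv_smul_smul, hq])
    have hv1 : v ≠ 1 := by rw [hv]; exact fun e' => hz1 (conj_eq_one_iff.mp e')
    -- `k` maps both fixed sets onto the fixed set of `z`
    have hbij : ∀ y ∈ P, y ≠ 1 → Nat.card {q : Ω // y • q = q} = Nat.card {q : Ω // z • q = q} →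
        ∀ q : Ω, z • k • q = k • q → y • q = q := by
      intro y hy hy1 hc q hq
      let F : {q : Ω // y • q = q} → {q : Ω // z • q = q} := fun p => ⟨k • p.1, incl y hy hy1 p.1 p.2⟩
      have hF : Function.Injective F := fun p p' e' =>
        Subtype.ext (MulAction.injective k (congrArg Subtype.val e'))
      obtain ⟨p, hp⟩ := (hF.bijective_of_nat_card_le hc.ge).2 ⟨k • q, hq⟩
      rw [← MulAction.injective k (congrArg Subtype.val hp : k • p.1 = k • q)]
      exact p.2
    have hcv : Nat.card {q : Ω // v • q = q} = Nat.card {q : Ω // z • q = q} := by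
      refine Nat.card_congr (Equiv.subtypeEquiv (MulAction.toPerm (g : G)⁻¹) fun q => ?_)
      show v • q = q ↔ z • (g : G)⁻¹ • q = (g : G)⁻¹ • q
      rw [hv, mul_smul, mul_smul, eq_inv_smul_iff (g := (g : G))]
    have hmemz : z ∈ P := Subgroup.subset_closure (Or.inl rfl)
    have hmemv : v ∈ P := Subgroup.subset_closure (Or.inr rfl)
    exact hcd (hbij z hmemz hz1 rfl c (incl v hmemv hv1 c hvc))
  -- the involution `w = zv` of the socle
  have hwM : z * v ∈ M := by
    rw [hv, show z * ((g : G) * z * (g : G)⁻¹) = z * g * z⁻¹ * (z * z) * (g : G)⁻¹ by group, hz2, mul_one]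
    exact mul_mem (hMn.conj_mem _ g.2 z) (inv_mem g.2)
  set w₀ : M := ⟨z * v, hwM⟩ with hw₀
  have hw02 : w₀ * w₀ = 1 := Subtype.ext (show z * v * (z * v) = 1 by
    rw [show z * v * (z * v) = z * (v * z) * v by group, ← hzv,
      show z * (z * v) * v = z * z * (v * v) by group, hz2, hv2, one_mul])
  have hw01 : w₀ ≠ 1 := fun e => by
    have e' : z * v = 1 := congrArg Subtype.val e
    have : v = z := by rw [eq_inv_of_mul_eq_one_right e', inv_eq_of_mul_eq_one_left hz2]
    exact hsame c (this ▸ hvc) hvc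
  set C := Subgroup.centralizer ({z} : Set G) |>.subgroupOf M with hC
  have hSC : (S : Subgroup M) ≤ C := fun x hx => Subgroup.mem_centralizer_singleton_iff.mpr (hzc _ (hmemS.mp hx))
  have hwC : w₀ ∈ C := Subgroup.mem_centralizer_singleton_iff.mpr (by
    show z * v * z = z * (z * v)
    rw [mul_assoc, ← hzv])
  obtain ⟨k, hk⟩ := Cfsg.exists_conj_mem_sylow (S.subtype hSC) (X := Subgroup.zpowers (⟨w₀, hwC⟩ : C))
    (IsPGroup.of_card (n := 1) (by
      rw [Nat.card_zpowers, pow_one, orderOf_eq_prime (by rw [pow_two]; exact Subtype.ext hw02)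
        fun e => hw01 (congrArg Subtype.val e)]))
  set w : M := (k : M) * w₀ * (k : M)⁻¹ with hw
  have hwS : w ∈ (S : Subgroup M) := hk _ (Subgroup.mem_zpowers _)
  have hw2 : w * w = 1 := by
    rw [hw, show (k : M) * w₀ * (k : M)⁻¹ * ((k : M) * w₀ * (k : M)⁻¹) = k * (w₀ * w₀) * (k : M)⁻¹ by group, hw02,
      mul_one, mul_inv_cancel]
  have hw1 : w ≠ 1 := fun e => hw01 (conj_eq_one_iff.mp e)
  have hwΔ : ∀ e : Ω, z • e = e → w • e ≠ e := by
    intro e hze hwe
    have hkz : ((k : M) : G) * z = z * ((k : M) : G) := Subgroup.mem_centralizer_singleton_iff.mp k.2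
    set e' := ((k : M) : G)⁻¹ • e
    have hwe' : (z * v) • e' = e' := by
      have h1 : (((k : M) : G) * (z * v) * ((k : M) : G)⁻¹) • e = e := hwe
      rw [mul_smul, mul_smul] at h1
      exact eq_inv_smul_iff.mpr h1
    have hze' : z • e' = e' := by
      have : z * ((k : M) : G)⁻¹ = ((k : M) : G)⁻¹ * z := (Commute.inv_left hkz).symm.eq
      rw [show z • e' = (z * ((k : M) : G)⁻¹) • e from (mul_smul _ _ _).symm, this, mul_smul, hze]
    refine hsame e' hze' ?_
    rw [show v = z * (z * v) by rw [← mul_assoc, hz2, one_mul], mul_smul, hwe', hze']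
  -- `w` moves `a` and has a small centraliser
  have hwT : (w : G) ∉ T₀ := fun hwT => hwΔ a (h.fix_a hz) (h.fix_a hwT)
  set D : Subgroup M := T₀.subgroupOf M ⊓ Subgroup.centralizer ({w} : Set M)
  let X := {e : Ω // w • e = e}
  letI : MulAction D X :=
    { smul := fun x e => ⟨(x : M) • e.1, by
        rw [← mul_smul, show w * (x : M) = x * w from (Subgroup.mem_centralizer_singleton_iff.mp x.2.2).symm,
          mul_smul, e.2]⟩
      one_smul := fun e => Subtype.ext (one_smul M e.1)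
      mul_smul := fun x y e => Subtype.ext (mul_smul (x : M) (y : M) e.1) }
  have hD : Nat.card D ≤ 2 := by
    refine card_le_two_of_free ((h.isPGroup.comap_of_injective M.subtype M.subtype_injective).to_le inf_le_left)
      (hM.parity hw2 hw1) fun e => (Subgroup.eq_bot_iff_forall _).mpr fun x hx => ?_
    by_contra hx1
    exact hwΔ e.1 (hsp ((x : M) : G) x.2.1 (fun e' => hx1 (Subtype.ext (Subtype.ext e'))) e.1
      (congrArg Subtype.val (show x • e = e from hx))) e.2
  set wS : (S : Subgroup M) := ⟨w, hwS⟩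
  set CS := Subgroup.centralizer ({wS} : Set (S : Subgroup M))
  have hidx : ∀ x : M, x ∈ (S : Subgroup M) → (x : G) ∉ T₀ → ((x * w : M) : G) ∈ T₀ := fun x hx hxT =>
    (Subgroup.mul_mem_iff_of_index_two h.idx (a := ⟨x, hmemS.mp hx⟩) (b := ⟨w, hmemS.mp hwS⟩)).mpr
      ⟨fun h1 => absurd h1 hxT, fun h1 => absurd h1 hwT⟩
  have hCS : Nat.card CS ≤ 4 := by
    have hmem : ∀ x : CS, ((x : (S : Subgroup M)) : M) * w = w * ((x : (S : Subgroup M)) : M) := fun x =>
      congrArg Subtype.val (Subgroup.mem_centralizer_singleton_iff.mp x.2)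
    refine le_trans (Nat.card_le_card_of_injective (fun x : CS =>
      if hx : (((x : (S : Subgroup M)) : M) : G) ∈ T₀
      then ((⟨((x : (S : Subgroup M)) : M), hx, Subgroup.mem_centralizer_singleton_iff.mpr (hmem x)⟩ : D), true)
      else (⟨((x : (S : Subgroup M)) : M) * w, hidx _ (x : (S : Subgroup M)).2 hx,
        Subgroup.mem_centralizer_singleton_iff.mpr (by rw [mul_assoc, hw2, mul_one, ← mul_assoc, ← hmem, mul_assoc,
          hw2, mul_one])⟩, false)) ?_) ?_
    · intro x y e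
      dsimp only at e
      split_ifs at e with hx hy hy <;> simp only [Prod.mk.injEq, Subtype.mk.injEq, Bool.true_eq_false,
        Bool.false_eq_true, and_false, and_true] at e
      · exact Subtype.ext (Subtype.ext (congrArg (fun z : D => (z : M)) e))
      · exact Subtype.ext (Subtype.ext (mul_right_cancel (congrArg (fun z : D => (z : M)) e)))
    · rw [Nat.card_prod, Nat.card_eq_fintype_card (α := Bool), Fintype.card_bool]
      omega
  refine ⟨S, h.restrict M two hS, ⟨w, hwS, hw2, hwT⟩, ?_⟩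
  have hS4 : 4 ≤ Nat.card (S : Subgroup M) := by
    rw [hcardS]
    rcases Nat.lt_or_ge (Nat.card R) 2 with hlt | hge
    · exfalso
      obtain ⟨q, hq⟩ := hM.inv_into hw2
      haveI : Subsingleton R := (Nat.card_eq_one_iff_unique.mp (by have := Nat.card_pos (α := R); omega)).1
      exact hw1 (conj_eq_one_iff.mp (congrArg Subtype.val (Subsingleton.elim (⟨_, hq⟩ : R) 1)))
    · omega
  have hfour : Nat.card (S : Subgroup M) = 4 →
      ∃ n : ℕ, 2 ≤ n ∧ Nonempty ((S : Subgroup M) ≃* DihedralGroup n) := by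
    intro h4
    have hcS : IsMulCommutative (S₁ : Subgroup M) :=
      IsPGroup.isMulCommutative_of_card_eq_prime_sq (p := 2) (by
        rw [S₁.card_eq_multiplicity, ← S.card_eq_multiplicity, h4]; norm_num)
    obtain ⟨-, hexp⟩ := hM.four_of_comm hna hcS
    obtain ⟨q, hq⟩ := MulAction.exists_smul_eq M S₁ S
    haveI : IsKleinFour (S : Subgroup M) := ⟨h4, Nat.dvd_antisymm
      (Monoid.exponent_dvd_of_forall_pow_eq_one fun x => Subtype.ext (by
        obtain ⟨y, hy, e⟩ : (x : M) ∈ (S₁ : Subgroup M).map (MulAut.conj q).toMonoidHom := by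
          have h1 : ((q • S₁ : Sylow 2 M) : Subgroup M) = (S₁ : Subgroup M).map (MulAut.conj q).toMonoidHom := by
            rw [Sylow.coe_subgroup_smul]; rfl
          rw [← h1, hq]; exact x.2
        show (x : M) ^ 2 = 1
        rw [← e, ← map_pow, pow_two, hexp y hy, map_one]))
      (by
        have h1 : orderOf wS = 2 := orderOf_eq_prime (by rw [pow_two]; exact Subtype.ext hw2) fun e =>
          hw1 (congrArg Subtype.val e)
        have h2 := Monoid.order_dvd_exponent wS
        rwa [h1] at h2)⟩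
    exact ⟨2, le_rfl, IsKleinFour.nonempty_mulEquiv⟩
  have hwo : orderOf wS = 2 := orderOf_eq_prime (by rw [pow_two]; exact Subtype.ext hw2) fun e =>
    hw1 (congrArg Subtype.val e)
  by_cases h4 : Nat.card CS = 4
  · rcases Cfsg.Agent.S3224.result S.2 wS hwo h4 with ⟨n, ⟨e⟩⟩ | hq | h4'
    · refine Or.inl ⟨n, ?_, ⟨e⟩⟩
      have h1 := Nat.card_congr e.toEquiv
      rw [DihedralGroup.nat_card] at h1
      omega
    · exact Or.inr hq
    · exact Or.inl (hfour h4')
  · -- the centraliser is `⟨w⟩`, so the Sylow subgroup has order two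
    exfalso
    have h2 : Nat.card CS = 2 := by
      obtain ⟨j, hj⟩ := (S.2.to_subgroup CS).exists_card_eq
      have h1 : 2 ≤ Nat.card CS := by
        have := Subgroup.card_dvd_of_le (show Subgroup.zpowers wS ≤ CS from
          Subgroup.zpowers_le.mpr (Subgroup.mem_centralizer_singleton_iff.mpr rfl))
        rw [Nat.card_zpowers, hwo] at this
        exact Nat.le_of_dvd Nat.card_pos this
      rw [hj] at h1 h4 hCS ⊢
      have : j ≤ 2 := by
        by_contra hlt
        exact absurd (Nat.pow_le_pow_right (show 0 < 2 by norm_num) (show 3 ≤ j by omega)) (by omega)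
      interval_cases j <;> omega
    have hCSeq : Subgroup.zpowers wS = CS := Subgroup.eq_of_le_of_card_ge
      (Subgroup.zpowers_le.mpr (Subgroup.mem_centralizer_singleton_iff.mpr rfl))
      (by rw [Nat.card_zpowers, hwo, h2])
    haveI : Nontrivial (S : Subgroup M) := Finite.one_lt_card_iff_nontrivial.mp (by omega)
    haveI := S.2.center_nontrivial
    obtain ⟨⟨y, hy⟩, hy1⟩ := exists_ne (1 : Subgroup.center (S : Subgroup M))
    have hyC : y ∈ CS := Subgroup.mem_centralizer_singleton_iff.mpr (Subgroup.mem_center_iff.mp hy wS).symm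
    have hwc : wS ∈ Subgroup.center (S : Subgroup M) := by
      have h1 : Subgroup.zpowers y = Subgroup.zpowers wS := Subgroup.eq_of_le_of_card_ge
        (Subgroup.zpowers_le.mpr (hCSeq ▸ hyC)) (by
          rw [Nat.card_zpowers, Nat.card_zpowers, hwo]
          have h2 := orderOf_pos y
          have h3 : orderOf y ≠ 1 := fun e => hy1 (Subtype.ext (orderOf_eq_one_iff.mp e))
          omega)
      exact Subgroup.zpowers_le.mpr hy (h1 ▸ Subgroup.mem_zpowers wS)
    have : CS = ⊤ := Subgroup.eq_top_iff' _ |>.mpr fun x =>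
      Subgroup.mem_centralizer_singleton_iff.mpr (Subgroup.mem_center_iff.mp hwc x)
    rw [this, Subgroup.card_top] at h2
    omega

end CfsgLib.ONanTwo
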