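import Cfsg.Agent.Lib.ONanTwo.Perm.Abelian
import Cfsg.Agent.Lib.ONanTwo.Fusion.Main
import Cfsg.Agent.Lib.UnitaryFourSylow
import Cfsg.Agent.S4594
import Cfsg.Agent.S0516

/-!
With `T` abelian the Sylow 2-subgroup is dihedral, quasi-dihedral or wreathed.

Blueprint: `blueprint/S3402.md`, part A.
-/

set_option autoImplicit false
set_option linter.unusedSectionVars false
set_option linter.style.haveILetI false

namespace CfsgLib.ONanTwo

open MulAction
open scoped commutatorElement

universe u v

variable {M : Type u} [Group M] [Finite M] {Ω : Type v} [Finite Ω] [MulAction M Ω] [FaithfulSMul M Ω]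
  [IsSimpleGroup M] {a b : Ω} {S : Sylow 2 M} {T : Subgroup M}

/-- An abelian subgroup of index two of a nonabelian group has order at most `|[S,S]| |Z(S)|`. -/
theorem card_le_of_index_two {X : Type*} [Group X] [Finite X] {A : Subgroup X} (hA : IsMulCommutative A)
    (hidx : A.index = 2) : Nat.card A ≤ Nat.card (commutator X) * Nat.card (Subgroup.center X) := by
  haveI := Subgroup.normal_of_index_eq_two hidx
  obtain ⟨s, hs⟩ : ∃ s, s ∉ A := by
    by_contra hh
    push Not at hh
    rw [(eq_top_iff.mpr fun x _ => hh x : A = ⊤), Subgroup.index_top] at hidx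
    omega
  have hc : ∀ {x y : X}, x ∈ A → y ∈ A → x * y = y * x := fun {x y} hx hy =>
    congrArg Subtype.val (hA.1.comm ⟨x, hx⟩ ⟨y, hy⟩)
  have hn : ∀ {x : X}, x ∈ A → s * x * s⁻¹ ∈ A := fun {x} hx => Subgroup.Normal.conj_mem inferInstance x hx s
  let f : A →* X :=
    { toFun := fun x => ⁅s, (x : X)⁆
      map_one' := commutatorElement_one_right s
      map_mul' := fun x y => by
        show ⁅s, (x : X) * y⁆ = ⁅s, (x : X)⁆ * ⁅s, (y : X)⁆
        simp only [commutatorElement_def, mul_inv_rev]
        calc s * ((x : X) * y) * s⁻¹ * ((y : X)⁻¹ * (x : X)⁻¹)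
            = s * x * s⁻¹ * ((s * y * s⁻¹) * ((y : X)⁻¹ * (x : X)⁻¹)) := by group
          _ = s * x * s⁻¹ * ((x : X)⁻¹ * ((s * y * s⁻¹) * (y : X)⁻¹)) := by
            rw [← mul_assoc (s * y * s⁻¹), hc (mul_mem (hn y.2) (inv_mem y.2)) (inv_mem x.2)]
          _ = _ := by group }
  have hker : f.ker.map A.subtype ≤ Subgroup.center X := by
    rintro _ ⟨x, hx, rfl⟩
    have hxs : s * (x : X) = x * s := commutatorElement_eq_one_iff_mul_comm.mp hx
    refine Subgroup.mem_center_iff.mpr fun g => ?_
    show g * (x : X) = x * g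
    by_cases hg : g ∈ A
    · exact hc hg x.2
    · have h1 : g * s⁻¹ ∈ A := (Subgroup.mul_mem_iff_of_index_two hidx).mpr
        ⟨fun h => absurd h hg, fun h => absurd ((inv_mem_iff (H := A)).mp h) hs⟩
      calc g * (x : X) = g * s⁻¹ * (s * x) := by group
        _ = g * s⁻¹ * x * s := by rw [hxs, ← mul_assoc]
        _ = x * g := by rw [hc h1 x.2]; group
  have hrange : f.range ≤ commutator X := by
    rintro _ ⟨x, rfl⟩
    exact Subgroup.commutator_mem_commutator (Subgroup.mem_top s) (Subgroup.mem_top (x : X))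
  have e := Subgroup.card_mul_index f.ker
  rw [Subgroup.index_ker] at e
  rw [← e, mul_comm]
  refine Nat.mul_le_mul (Nat.le_of_dvd Nat.card_pos (Subgroup.card_dvd_of_le hrange)) ?_
  rw [← Subgroup.card_map_of_injective A.subtype_injective (K := f.ker)] 
  exact Nat.le_of_dvd Nat.card_pos (Subgroup.card_dvd_of_le hker)

/-- The Sylow 2-subgroup when `T` is abelian. -/
theorem Sock.types (h : Sock a b S T) (hna : ¬ IsMulCommutative M) (hT : IsMulCommutative T) :
    (∃ n : ℕ, 2 ≤ n ∧ Nonempty ((S : Subgroup M) ≃* DihedralGroup n)) ∨ Cfsg.IsQuasiDihedral (S : Subgroup M) ∨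
      Cfsg.IsWreathed (S : Subgroup M) := by
  classical
  haveI : Fact (Nat.Prime 2) := ⟨Nat.prime_two⟩
  haveI : Fintype (GaloisField 2 4) := Fintype.ofFinite _
  have h16 : Fintype.card (GaloisField 2 4) = 16 := by
    rw [← Nat.card_eq_fintype_card, GaloisField.card 2 4 (by norm_num)]
    norm_num
  haveI : Finite (Cfsg.PSU 3 (GaloisField 2 4) 4) := inferInstance
  obtain ⟨P⟩ : Nonempty (Sylow 2 (Cfsg.PSU 3 (GaloisField 2 4) 4)) := inferInstance
  obtain ⟨hP64, hPK, -, hPc, hPq, -⟩ := CfsgLib.UnitaryFour.main h16 P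
  by_cases hS : IsMulCommutative (S : Subgroup M)
  · obtain ⟨h4, hexp⟩ := h.four_of_comm hna hS
    haveI : IsKleinFour (S : Subgroup M) := ⟨h4, Nat.dvd_antisymm
      (Monoid.exponent_dvd_of_forall_pow_eq_one fun x => Subtype.ext (by
        rw [pow_two]; exact hexp x x.2))
      (by
        obtain ⟨x, hx⟩ := exists_prime_orderOf_dvd_card' (G := (S : Subgroup M)) 2 (by rw [h4]; norm_num)
        have h1 := Monoid.order_dvd_exponent x
        rwa [hx] at h1)⟩
    exact Or.inl ⟨2, le_rfl, IsKleinFour.nonempty_mulEquiv⟩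
  set A := T.subgroupOf (S : Subgroup M) with hA
  have hAc : IsMulCommutative A := ⟨⟨fun x y => Subtype.ext (Subtype.ext
    (congrArg Subtype.val (hT.1.comm ⟨_, x.2⟩ ⟨_, y.2⟩) :))⟩⟩
  have hrank : Cfsg.PRankLE 2 2 M ∧ ¬ Nonempty ((S : Subgroup M) ≃* (P : Subgroup (Cfsg.PSU 3 (GaloisField 2 4) 4))) := by
    by_cases hbig : 4 < ((Cfsg.SmallCentre.cen (S : Subgroup M)).subgroupOf (S : Subgroup M)).index
    · refine ⟨Fusion.prankLE_two ⟨h.le, hT, h.idx, hS, hbig⟩, fun ⟨e⟩ => ?_⟩
      have hc := card_le_of_index_two hAc h.idx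
      have hZ : Nat.card (Subgroup.center (S : Subgroup M)) = 4 := by
        rw [Nat.card_congr (Subgroup.centerCongr e).toEquiv]
        exact hPK.card_four
      have hC : Nat.card (commutator (S : Subgroup M)) = 4 := by
        rw [← Subgroup.card_map_of_injective (f := e.toMonoidHom) e.injective (K := commutator (S : Subgroup M)),
          show (commutator (S : Subgroup M)).map e.toMonoidHom =
            commutator (P : Subgroup (Cfsg.PSU 3 (GaloisField 2 4) 4)) by
            rw [commutator_def, Subgroup.map_commutator, Subgroup.map_top_of_surjective _ e.surjective,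
              ← commutator_def], ← hPc]
        exact hPK.card_four
      have h1 := Subgroup.card_mul_index A
      rw [h.idx, Nat.card_congr e.toEquiv, hP64] at h1
      rw [hZ, hC] at hc
      omega
    · have hq : Cfsg.IsQuasisimple M := by
        refine ⟨?_, ?_⟩
        · exact ⟨(IsSimpleGroup.eq_bot_or_eq_top_of_normal (commutator M) inferInstance).resolve_left fun e =>
            hna ⟨⟨fun x y => commutatorElement_eq_one_iff_mul_comm.mp (Subgroup.mem_bot.mp (e ▸
              Subgroup.commutator_mem_commutator (Subgroup.mem_top x) (Subgroup.mem_top y)))⟩⟩⟩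
        · have hZ : Subgroup.center M = ⊥ :=
            (IsSimpleGroup.eq_bot_or_eq_top_of_normal (Subgroup.center M) inferInstance).resolve_right fun e =>
              hna ⟨⟨fun x y => Subgroup.mem_center_iff.mp (e ▸ Subgroup.mem_top y) x⟩⟩
          exact ((QuotientGroup.quotientMulEquivOfEq hZ).trans QuotientGroup.quotientBot).isSimpleGroup
      have hcen : (Cfsg.SmallCentre.cen (S : Subgroup M)).subgroupOf (S : Subgroup M) =
          Subgroup.center (S : Subgroup M) :=
        Subgroup.ext fun x => ⟨fun hx => (Cfsg.SmallCentre.mem_cen.mp hx).2,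
          fun hx => Cfsg.SmallCentre.mem_cen.mpr ⟨x.2, hx⟩⟩
      rw [hcen] at hbig
      have h4 : (Subgroup.center (S : Subgroup M)).index = 4 := by
        obtain ⟨k, hk⟩ := IsPGroup.iff_card.mp S.2
        obtain ⟨j, -, hj⟩ := (Nat.dvd_prime_pow Nat.prime_two).mp (hk ▸ Subgroup.index_dvd_card (Subgroup.center (S : Subgroup M)))
        rw [hj] at hbig ⊢
        have hj2 : j ≤ 2 := by
          by_contra hlt
          exact absurd (Nat.pow_le_pow_right (show 0 < 2 by norm_num) (show 3 ≤ j by omega)) (by omega)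
        interval_cases j
        · refine absurd ?_ hS
          rw [pow_zero, Subgroup.index_eq_one] at hj
          exact ⟨⟨fun x y => Subgroup.mem_center_iff.mp (hj ▸ Subgroup.mem_top y) x⟩⟩
        · refine absurd ?_ hS
          haveI : IsCyclic ((S : Subgroup M) ⧸ Subgroup.center (S : Subgroup M)) :=
            isCyclic_of_prime_card (p := 2) (by rw [← Subgroup.index_eq_card]; exact hj)
          exact MonoidHom.isMulCommutative_of_isCyclic_of_ker_le_center
            (QuotientGroup.mk' (Subgroup.center (S : Subgroup M))) (QuotientGroup.ker_mk' _).le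
        · rfl
      obtain ⟨h8, -⟩ := Cfsg.Agent.S4594.result hq S hS h4
      refine ⟨fun E hE hE2 => ?_, fun ⟨e⟩ => by rw [Nat.card_congr e.toEquiv, hP64] at h8; omega⟩
      obtain ⟨g, hg⟩ := Cfsg.exists_conj_mem_sylow S (X := E) (fun x => ⟨1, Subtype.ext (by
        rw [pow_one]; exact hE2 x x.2)⟩)
      by_contra hlt
      have hle : E.map (MulAut.conj g).toMonoidHom ≤ (S : Subgroup M) := by
        rintro _ ⟨x, hx, rfl⟩; exact hg x hx
      have hc8 : Nat.card (E.map (MulAut.conj g).toMonoidHom) = Nat.card E :=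
        Subgroup.card_map_of_injective (MulAut.conj g).injective
      have hd := Subgroup.card_dvd_of_le hle
      rw [hc8, h8] at hd
      have h8' : Nat.card E = 8 := by
        have := Nat.le_of_dvd (by norm_num) hd
        have h5 : 2 ^ 2 < Nat.card E := not_le.mp hlt
        generalize Nat.card E = r at *
        interval_cases r <;> omega
      have hEq : E.map (MulAut.conj g).toMonoidHom = (S : Subgroup M) :=
        Subgroup.eq_of_le_of_card_ge hle (by rw [hc8, h8', h8])
      haveI := hE
      exact hS (hEq ▸ Subgroup.map_isMulCommutative E _)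
  rcases Cfsg.Agent.S0516.result hna hrank.1 S h16 P with hd | hq | hw | he
  · exact Or.inl hd
  · exact Or.inr (Or.inl hq)
  · exact Or.inr (Or.inr hw)
  · exact absurd he hrank.2

end CfsgLib.ONanTwo
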