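import Cfsg.Agent.Lib.ONanTwo.Perm.Fixed
import Cfsg.Agent.Lib.ONanTwo.Perm.Types
import Cfsg.Agent.Lib.ONanTwo.Perm.Special
import Cfsg.Agent.Lib.RankTwoModel.Hyp
import Cfsg.Agent.Lib.QuasiDihedral

/-!
One class of involutions, also in the two-point stabiliser.

Blueprint: `blueprint/S3402.md`, part C.
-/

set_option autoImplicit false
set_option linter.unusedSectionVars false
set_option linter.style.haveILetI false

namespace CfsgLib.ONanTwo

open MulAction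

universe u v

variable {M : Type u} [Group M] [Finite M] {Ω : Type v} [Finite Ω] [MulAction M Ω] [FaithfulSMul M Ω]
  [IsSimpleGroup M] {a b : Ω} {S : Sylow 2 M} {T : Subgroup M}

/-- One class of involutions. -/
theorem qw_conj (hna : ¬ IsMulCommutative M)
    (hS : Cfsg.IsQuasiDihedral (S : Subgroup M) ∨ Cfsg.IsWreathed (S : Subgroup M)) {x y : M} (hx : x * x = 1)
    (hx1 : x ≠ 1) (hy : y * y = 1) (hy1 : y ≠ 1) : ∃ g : M, g * x * g⁻¹ = y := by
  haveI : Fact (Nat.Prime 2) := ⟨Nat.prime_two⟩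
  have hidx : ∀ H : Subgroup M, H.index ≠ 2 := fun H => CfsgLib.BrauerOrder.index_ne_two hna H
  refine isConj_iff.mp (CfsgLib.RankTwoSimple.isConj_of_card_classes ?_
    (orderOf_eq_prime (by rw [pow_two]; exact hx) hx1) (orderOf_eq_prime (by rw [pow_two]; exact hy) hy1))
  rcases hS with hS | hS
  · exact (CfsgLib.QDWNoTwo.classes_of_quasiDihedral S hS hidx).1
  · obtain ⟨n, hn2, hn, U, Q, hUS, hUab, hUc, hQS, ⟨eQ⟩⟩ := CfsgLib.QDWNoTwo.wreathed_local S hS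
    exact (CfsgLib.QDWNoTwo.wreathed_six S hS hidx n hn (by omega) U hUS hUab hUc Q hQS eQ).2

theorem qw_card (hS : Cfsg.IsQuasiDihedral (S : Subgroup M) ∨ Cfsg.IsWreathed (S : Subgroup M)) :
    16 ≤ Nat.card (S : Subgroup M) := by
  rcases hS with ⟨n, hn, hc, -⟩ | ⟨n, hn, hc, -⟩ <;> rw [hc] <;>
    exact le_trans (by norm_num : 16 ≤ 2 ^ 4) (Nat.pow_le_pow_right (by norm_num) (by omega))

/-- `T` abelian. -/
theorem Sock.pairOne_of_comm (h : Sock a b S T) (hna : ¬ IsMulCommutative M)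
    (hS : Cfsg.IsQuasiDihedral (S : Subgroup M) ∨ Cfsg.IsWreathed (S : Subgroup M)) (hT : IsMulCommutative T)
    {t : M} (ht : t ∈ T) (ht2 : t * t = 1) (ht1 : t ≠ 1) : PairOne a b T t := by
  classical
  haveI : Fact (Nat.Prime 2) := ⟨Nat.prime_two⟩
  have h16 := qw_card hS
  have hnab : ¬ IsMulCommutative (S : Subgroup M) := fun hc => by
    have := (h.four_of_comm hna hc).1
    omega
  have hbig : 4 < ((Cfsg.SmallCentre.cen (S : Subgroup M)).subgroupOf (S : Subgroup M)).index := by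
    rw [show (Cfsg.SmallCentre.cen (S : Subgroup M)).subgroupOf (S : Subgroup M) = Subgroup.center (S : Subgroup M) from
      Subgroup.ext fun x => ⟨fun hx => (Cfsg.SmallCentre.mem_cen.mp hx).2,
        fun hx => Cfsg.SmallCentre.mem_cen.mpr ⟨x.2, hx⟩⟩]
    by_contra hle
    obtain ⟨k, hk⟩ := IsPGroup.iff_card.mp S.2
    obtain ⟨j, -, hj⟩ := (Nat.dvd_prime_pow Nat.prime_two).mp
      (hk ▸ Subgroup.index_dvd_card (Subgroup.center (S : Subgroup M)))
    rw [hj] at hle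
    have hj2 : j ≤ 2 := by
      by_contra hlt
      exact hle (lt_of_lt_of_le (by norm_num : 4 < 2 ^ 3) (Nat.pow_le_pow_right (by norm_num) (by omega)))
    interval_cases j
    · rw [pow_zero, Subgroup.index_eq_one] at hj
      exact hnab ⟨⟨fun x y => Subgroup.mem_center_iff.mp (hj ▸ Subgroup.mem_top y) x⟩⟩
    · haveI : IsCyclic ((S : Subgroup M) ⧸ Subgroup.center (S : Subgroup M)) :=
        isCyclic_of_prime_card (p := 2) (by rw [← Subgroup.index_eq_card]; exact hj)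
      exact hnab (MonoidHom.isMulCommutative_of_isCyclic_of_ker_le_center
        (QuotientGroup.mk' (Subgroup.center (S : Subgroup M))) (QuotientGroup.ker_mk' _).le)
    · haveI : Group.IsPerfect M := ⟨(IsSimpleGroup.eq_bot_or_eq_top_of_normal (commutator M) inferInstance).resolve_left
        fun e => hna ⟨⟨fun x y => commutatorElement_eq_one_iff_mul_comm.mp (Subgroup.mem_bot.mp (e ▸
          Subgroup.commutator_mem_commutator (Subgroup.mem_top x) (Subgroup.mem_top y)))⟩⟩⟩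
      have hZ : Subgroup.center M = ⊥ :=
        (IsSimpleGroup.eq_bot_or_eq_top_of_normal (Subgroup.center M) inferInstance).resolve_right fun e =>
          hna ⟨⟨fun x y => Subgroup.mem_center_iff.mp (e ▸ Subgroup.mem_top y) x⟩⟩
      have := (Cfsg.Agent.S4594.result (G := M)
        ⟨inferInstance, ((QuotientGroup.quotientMulEquivOfEq hZ).trans QuotientGroup.quotientBot).isSimpleGroup⟩
        S hnab hj).1
      omega
  have hC : Fusion.Cfg S T := ⟨h.le, hT, h.idx, hnab, hbig⟩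
  set N := Subgroup.normalizer (T : Set M)
  have hperm : ∀ g ∈ N, (g • a = a ∧ g • b = b) ∨ (g • a = b ∧ g • b = a) := fun g hg =>
    h.perm_ab fun x hx => (Subgroup.mem_normalizer_iff''.mp hg x).mp hx
  set E : Set M := {x | x ∈ T ∧ x ≠ 1 ∧ x * x = 1} with hE
  have hfus : ∀ x ∈ E, ∃ g ∈ N, g * x * g⁻¹ = t := fun x hx => by
    obtain ⟨g, hg⟩ := qw_conj hna hS hx.2.2 hx.2.1 ht2 ht1
    exact hC.fusion hx.1 ht hg
  set O : Set M := {x | x ∈ E ∧ ∃ g ∈ N, g • a = a ∧ g • b = b ∧ g * x * g⁻¹ = t} with hO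
  suffices hOE : O = E by
    intro x hx hx1 hx2
    obtain ⟨-, g, -, g1, g2, g3⟩ := hOE.ge (⟨hx, hx1, hx2⟩ : x ∈ E)
    exact ⟨g, g1, g2, g3⟩
  by_contra hne
  have hsub : O ⊆ E := fun x hx => hx.1
  obtain ⟨x₀, hx₀E, hx₀O⟩ := Set.exists_of_ssubset (HasSubset.Subset.ssubset_of_ne hsub hne)
  obtain ⟨g₀, hg₀, hg₀x⟩ := hfus x₀ hx₀E
  have hg₀sw : g₀ • a = b ∧ g₀ • b = a := (hperm g₀ hg₀).resolve_left fun e => hx₀O ⟨hx₀E, g₀, hg₀, e.1, e.2, hg₀x⟩
  have hmaps : ∀ {g x : M}, g ∈ N → x ∈ E → g * x * g⁻¹ ∈ E := fun {g x} hg hx =>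
    ⟨(Subgroup.mem_normalizer_iff.mp hg x).mp hx.1, fun e => hx.2.1 (conj_eq_one_iff.mp e), by
      rw [show g * x * g⁻¹ * (g * x * g⁻¹) = g * (x * x) * g⁻¹ by group, hx.2.2, mul_one, mul_inv_cancel]⟩
  have hinvol : Set.image (fun x => g₀⁻¹ * x * g₀) O = E \ O := by
    ext x
    constructor
    · rintro ⟨y, ⟨hy, g, hg, g1, g2, g3⟩, rfl⟩
      refine ⟨by simpa using hmaps (inv_mem hg₀) hy, ?_⟩
      rintro ⟨-, k, hk, k1, k2, k3⟩
      -- then `t` is fixed by a swap, so `x₀` lies in `O`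
      refine hx₀O ⟨hx₀E, k * g₀⁻¹ * g⁻¹ * g₀, mul_mem (mul_mem (mul_mem hk (inv_mem hg₀)) (inv_mem hg)) hg₀, ?_, ?_, ?_⟩
      · rw [mul_smul, mul_smul, mul_smul, hg₀sw.1, inv_smul_eq_iff.mpr g2.symm, inv_smul_eq_iff.mpr hg₀sw.1.symm, k1]
      · rw [mul_smul, mul_smul, mul_smul, hg₀sw.2, inv_smul_eq_iff.mpr g1.symm, inv_smul_eq_iff.mpr hg₀sw.2.symm, k2]
      · calc k * g₀⁻¹ * g⁻¹ * g₀ * x₀ * (k * g₀⁻¹ * g⁻¹ * g₀)⁻¹
            = k * g₀⁻¹ * g⁻¹ * (g₀ * x₀ * g₀⁻¹) * g * g₀ * k⁻¹ := by group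
          _ = k * g₀⁻¹ * g⁻¹ * (g * y * g⁻¹) * g * g₀ * k⁻¹ := by rw [hg₀x, g3]
          _ = k * (g₀⁻¹ * y * g₀) * k⁻¹ := by group
          _ = t := k3
    · rintro ⟨hx, hxO⟩
      refine ⟨g₀ * x * g₀⁻¹, ⟨hmaps hg₀ hx, ?_⟩, by group⟩
      obtain ⟨g, hg, hgx⟩ := hfus x hx
      have hsw : g • a = b ∧ g • b = a := (hperm g hg).resolve_left fun e => hxO ⟨hx, g, hg, e.1, e.2, hgx⟩
      refine ⟨g * g₀⁻¹, mul_mem hg (inv_mem hg₀), ?_, ?_, by rw [← hgx]; group⟩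
      · rw [mul_smul, inv_smul_eq_iff.mpr hg₀sw.2.symm, hsw.2]
      · rw [mul_smul, inv_smul_eq_iff.mpr hg₀sw.1.symm, hsw.1]
  have hcard := congrArg Set.ncard hinvol
  rw [Set.ncard_image_of_injective _ (fun x y e => mul_left_cancel (mul_right_cancel e)),
    Set.ncard_diff hsub] at hcard
  have hle := Set.ncard_le_ncard hsub
  -- `E` has odd size
  have hodd : ¬ 2 ∣ E.ncard := by
    let U : Subgroup M :=
      { carrier := {x | x ∈ T ∧ x * x = 1}
        one_mem' := ⟨T.one_mem, one_mul 1⟩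
        mul_mem' := fun {x y} hx hy => ⟨mul_mem hx.1 hy.1, by
          rw [show x * y * (x * y) = x * (y * x) * y by group, hC.comm_mem hy.1 hx.1,
            show x * (x * y) * y = x * x * (y * y) by group, hx.2, hy.2, one_mul]⟩
        inv_mem' := fun {x} hx => ⟨inv_mem hx.1, by rw [← mul_inv_rev, hx.2, inv_one]⟩ }
    have hUE : E = (U : Set M) \ {1} := Set.ext fun x =>
      ⟨fun hx => ⟨⟨hx.1, hx.2.2⟩, hx.2.1⟩, fun hx => ⟨hx.1.1, hx.2, hx.1.2⟩⟩
    obtain ⟨j, hj⟩ := (h.isPGroup.to_le (fun x hx => hx.1 : U ≤ T)).exists_card_eq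
    have hj0 : j ≠ 0 := fun e => by
      rw [e, pow_zero] at hj
      exact ht1 (Subgroup.mem_bot.mp (Subgroup.card_eq_one.mp hj ▸ (show t ∈ U from ⟨ht, ht2⟩)))
    rw [hUE, Set.ncard_diff (Set.singleton_subset_iff.mpr U.one_mem), Set.ncard_singleton,
      ← Nat.card_coe_set_eq, show Nat.card (U : Set M) = 2 ^ j from hj]
    have h2 : 2 ∣ 2 ^ j := dvd_pow_self 2 hj0
    have := Nat.two_pow_pos j
    omega
  exact hodd ⟨O.ncard, by omega⟩

/-- A quasi-dihedral Sylow subgroup with an involution outside `T`: `T` has one involution. -/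
theorem Sock.pairOne_of_qd (h : Sock a b S T) (hS : Cfsg.IsQuasiDihedral (S : Subgroup M)) {w : M}
    (hwS : w ∈ (S : Subgroup M)) (hw : w * w = 1) (hwT : w ∉ T) {t : M} (ht : t ∈ T) (ht2 : t * t = 1)
    (ht1 : t ≠ 1) : PairOne a b T t := by
  haveI : Fact (Nat.Prime 2) := ⟨Nat.prime_two⟩
  obtain ⟨n, -, -, d, -⟩ := CfsgLib.QD.exists_data hS
  set T' := T.subgroupOf (S : Subgroup M)
  haveI := Subgroup.normal_of_index_eq_two h.idx
  have hsq : ∀ g : (S : Subgroup M), g * g ∈ T' := fun g => Subgroup.mul_self_mem_of_index_two h.idx g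
  have hw1 : w ≠ 1 := fun e => hwT (e ▸ T.one_mem)
  -- involutions lie in `⟨x²⟩ ∪ y ⟨x²⟩`
  have hinv : ∀ g : (S : Subgroup M), g * g = 1 → g ≠ 1 → g = d.z ∨ ∃ i : ℤ, g = d.x ^ (2 * i) * d.y := by
    intro g hg hg1
    obtain ⟨i, hi | hi⟩ := CfsgLib.QD.cases_elem d g
    · left
      rw [hi, ← zpow_add, CfsgLib.QD.zpow_eq_one_iff] at hg
      obtain ⟨j, hj⟩ := hg
      rw [hi, CfsgLib.QD.Data.z, CfsgLib.QD.zpow_eq_iff]
      rcases Int.even_or_odd j with ⟨r, hr⟩ | ⟨r, hr⟩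
      · exfalso
        refine hg1 ?_
        rw [hi, CfsgLib.QD.zpow_eq_one_iff]
        exact ⟨r, by subst hr; linarith⟩
      · exact ⟨-r, by subst hr; linarith⟩
    · right
      have e : g * g = d.x ^ (4 * (d.M : ℤ) * i) := by
        rw [hi, show d.x ^ i * d.y * (d.x ^ i * d.y) = d.x ^ i * (d.y * d.x ^ i) * d.y by group,
          CfsgLib.QD.y_mul_zpow, show d.x ^ i * (d.x ^ ((4 * (d.M : ℤ) - 1) * i) * d.y) * d.y =
            d.x ^ i * d.x ^ ((4 * (d.M : ℤ) - 1) * i) * (d.y * d.y) by group, CfsgLib.QD.hyy, mul_one, ← zpow_add]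
        ring_nf
      rw [e, CfsgLib.QD.zpow_eq_one_iff] at hg
      obtain ⟨j, hj⟩ := hg
      have hM : (0 : ℤ) < d.M := by exact_mod_cast d.hM
      have : i = 2 * j := by nlinarith
      exact ⟨j, by rw [hi, this]⟩
  have hx2 : ∀ i : ℤ, d.x ^ (2 * i) ∈ T' := fun i => by
    rw [two_mul, zpow_add]; exact hsq _
  have hz : d.z ∈ T' := by
    rw [CfsgLib.QD.Data.z, show (4 * (d.M : ℤ)) = 2 * (2 * d.M) by ring]; exact hx2 _
  have hy : d.y ∉ T' := by
    intro hy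
    rcases hinv ⟨w, hwS⟩ (Subtype.ext hw) (fun e => hw1 (congrArg Subtype.val e)) with e | ⟨i, e⟩
    · exact hwT (show (⟨w, hwS⟩ : (S : Subgroup M)) ∈ T' from e ▸ hz)
    · exact hwT (show (⟨w, hwS⟩ : (S : Subgroup M)) ∈ T' from e ▸ mul_mem (hx2 i) hy)
  have huniq : ∀ x ∈ T, x * x = 1 → x ≠ 1 → x = ((d.z : (S : Subgroup M)) : M) := by
    intro x hx hx2' hx1
    rcases hinv ⟨x, h.le hx⟩ (Subtype.ext hx2') (fun e => hx1 (congrArg Subtype.val e)) with e | ⟨i, e⟩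
    · exact congrArg Subtype.val e
    · exfalso
      refine hy ?_
      have h1 : (d.x ^ (2 * i))⁻¹ * (⟨x, h.le hx⟩ : (S : Subgroup M)) = d.y := by rw [e, inv_mul_cancel_left]
      exact h1 ▸ mul_mem (inv_mem (hx2 i)) (show (⟨x, h.le hx⟩ : (S : Subgroup M)) ∈ T' from hx)
  intro t' ht' ht'1 ht'2
  exact ⟨1, one_smul M a, one_smul M b, by
    rw [one_mul, inv_one, mul_one, huniq t' ht' ht'2 ht'1, huniq t ht ht2 ht1]⟩

end CfsgLib.ONanTwo
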