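import Cfsg.Agent.Lib.ONanTwo.Perm.Linear
import Cfsg.Agent.Lib.SU3Inv
import Cfsg.Agent.S0281
import Cfsg.Agent.S0280
import Cfsg.Agent.S2148
import Cfsg.Agent.S2149

/-!
`U₃(q)`, `q` odd: the degree is `q³ + 1`.

Blueprint: `blueprint/S3402.md`, part C.
-/

set_option autoImplicit false
set_option linter.unusedSectionVars false
set_option linter.style.haveILetI false

namespace CfsgLib.ONanTwo

open MulAction Matrix CfsgLib.UnitaryTransvection CfsgLib.UnitarySimple

universe u v w

section Model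

variable {F : Type w} [Field F] [Fintype F] {q : ℕ} (hF : Fintype.card F = q ^ 2)

/-- `diag(det A⁻¹, A)`. -/
def blkMat (A : GL (Fin 2) F) : Matrix (Fin 3) (Fin 3) F :=
  !![((A⁻¹ : GL (Fin 2) F).1.det), 0, 0; 0, A.1 0 0, A.1 0 1; 0, A.1 1 0, A.1 1 1]

theorem blkMat_mulVec (A : GL (Fin 2) F) (x : Fin 3 → F) :
    blkMat A *ᵥ x = Fin.cons ((A⁻¹ : GL (Fin 2) F).1.det * x 0) (A.1 *ᵥ Fin.tail x) := by
  funext i
  fin_cases i <;> simp [blkMat, Matrix.mulVec, dotProduct, Fin.sum_univ_three, Fin.sum_univ_two, Fin.tail]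

theorem blkMat_det (A : GL (Fin 2) F) : (blkMat A).det = 1 := by
  have h : (A⁻¹ : GL (Fin 2) F).1.det * A.1.det = 1 := by
    rw [← Matrix.det_mul, ← Units.val_mul, inv_mul_cancel, Units.val_one, Matrix.det_one]
  rw [Matrix.det_fin_two A.1] at h
  rw [Matrix.det_fin_three]
  unfold blkMat
  generalize hc : (A⁻¹ : GL (Fin 2) F).1.det = c at h ⊢
  simp
  linear_combination h

include hF in
theorem blkMat_iso (A : Cfsg.GU 2 F q) (x y : Fin 3 → F) :
    Cfsg.hermForm 3 F q (blkMat A.1 *ᵥ x) (blkMat A.1 *ᵥ y) = Cfsg.hermForm 3 F q x y := by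
  have hd : ((A.1⁻¹ : GL (Fin 2) F).1.det) ^ (q + 1) = 1 := by
    have h := CfsgLib.UnitaryBasic.det_pow hF (inv_mem A.2)
    simpa using congrArg Units.val h
  rw [blkMat_mulVec, blkMat_mulVec, CfsgLib.SU3Inv.cons_h hF, CfsgLib.SU3Inv.h_eq hF x y,
    show Cfsg.hermForm 2 F q (A.1.1 *ᵥ Fin.tail x) (A.1.1 *ᵥ Fin.tail y) = _ from A.2 _ _]
  rw [map_mul, frob_apply, frob_apply]
  linear_combination (x 0 * (y 0) ^ q) * hd

/-- The embedding of `GU₂(q)`. -/
noncomputable def blk : Cfsg.GU 2 F q →* Cfsg.SU 3 F q where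
  toFun A := mkSU (blkMat A.1) (blkMat_iso hF A) (blkMat_det A.1)
  map_one' := su_ext fun x => by
    show blkMat (1 : GL (Fin 2) F) *ᵥ x = (1 : Matrix (Fin 3) (Fin 3) F) *ᵥ x
    rw [blkMat_mulVec, inv_one, Units.val_one, Matrix.det_one, one_mul, Matrix.one_mulVec, Matrix.one_mulVec,
      Fin.cons_self_tail]
  map_mul' A B := su_ext fun x => by
    show blkMat (A.1 * B.1) *ᵥ x = (blkMat A.1 * blkMat B.1) *ᵥ x
    rw [← Matrix.mulVec_mulVec, blkMat_mulVec, blkMat_mulVec, blkMat_mulVec, Fin.cons_zero, Fin.tail_cons,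
      _root_.mul_inv_rev, Units.val_mul, Units.val_mul, Matrix.det_mul, Matrix.mulVec_mulVec]
    exact congrArg (fun c : F => (Fin.cons c ((A.1.1 * B.1.1) *ᵥ Fin.tail x) : Fin 3 → F)) (by ring)

theorem blk_inj : Function.Injective (blk hF) := fun A B e => by
  refine Subtype.ext (Units.ext (Matrix.ext_of_mulVec_single fun i => ?_))
  have h := congrArg (fun g : Cfsg.SU 3 F q => Fin.tail (mat g *ᵥ Fin.cons 0 (Pi.single i 1))) e
  change Fin.tail (blkMat A.1 *ᵥ _) = Fin.tail (blkMat B.1 *ᵥ _) at h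
  rwa [blkMat_mulVec, blkMat_mulVec, Fin.tail_cons, Fin.tail_cons, Fin.tail_cons] at h

theorem mat_E_mulVec (x : Fin 3 → F) :
    mat (CfsgLib.SU3Inv.E hF) *ᵥ x = Fin.cons (x 0) (-Fin.tail x) := by
  rw [CfsgLib.SU3Inv.E, CfsgLib.SU3Inv.ρ_mulVec, CfsgLib.SU3Inv.h_e0 hF]
  funext i
  refine Fin.cases ?_ (fun j => ?_) i
  · simp [CfsgLib.SU3Inv.e0]; ring
  · simp [CfsgLib.SU3Inv.e0, Fin.tail]

theorem blk_comm (A : Cfsg.GU 2 F q) : blk hF A * CfsgLib.SU3Inv.E hF = CfsgLib.SU3Inv.E hF * blk hF A := by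
  refine su_ext fun x => ?_
  rw [mat_mul, mat_mul, ← mulVec_mulVec, ← mulVec_mulVec, mat_E_mulVec, mat_E_mulVec]
  show blkMat A.1 *ᵥ Fin.cons (x 0) (-Fin.tail x) = Fin.cons ((blkMat A.1 *ᵥ x) 0) (-Fin.tail (blkMat A.1 *ᵥ x))
  rw [blkMat_mulVec, blkMat_mulVec, Fin.cons_zero, Fin.tail_cons, Matrix.mulVec_neg, Fin.cons_zero, Fin.tail_cons]

include hF in
/-- `GU₂(q)` modulo the determinant one part and the scalars. -/
theorem gu_two_index :
    ((Matrix.GeneralLinearGroup.det.comp (Cfsg.GU 2 F q).subtype).ker ⊔ Subgroup.center (Cfsg.GU 2 F q)).index ≤ 2 := by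
  classical
  set d := Matrix.GeneralLinearGroup.det.comp (Cfsg.GU 2 F q).subtype with hd
  set L := d.ker ⊔ Subgroup.center (Cfsg.GU 2 F q)
  have hker : d.rangeRestrict.ker ≤ L := by rw [MonoidHom.ker_rangeRestrict]; exact le_sup_left
  rw [← Subgroup.index_map_eq L d.rangeRestrict_surjective hker]
  have hle : (powMonoidHom 2 : d.range →* d.range).range ≤ L.map d.rangeRestrict := by
    rintro _ ⟨⟨u, hu⟩, rfl⟩
    have hu1 : u ^ (q + 1) = 1 := by
      obtain ⟨g, rfl⟩ := hu
      have h := CfsgLib.UnitaryBasic.det_pow hF g.2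
      exact h
    let s : Cfsg.GU 2 F q := ⟨CfsgLib.UnitaryBasic.dgl (fun _ => u), CfsgLib.UnitaryBasic.dgl_mem _ fun _ => hu1⟩
    refine ⟨s, Subgroup.mem_sup_right (Subgroup.mem_center_iff.mpr fun g => ?_), ?_⟩
    · refine Subtype.ext (Units.ext ?_)
      show g.1.1 * diagonal (fun _ => (u : F)) = diagonal (fun _ => (u : F)) * g.1.1
      exact (Matrix.scalar_commute (u : F) (fun r' => Commute.all _ _) g.1.1).symm.eq
    · refine Subtype.ext (Units.ext ?_)
      show (diagonal fun _ : Fin 2 => (u : F)).det = ((u ^ 2 : Fˣ) : F)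
      rw [Matrix.det_diagonal, Fin.prod_univ_two, Units.val_pow_eq_pow_val, pow_two]
  refine (Nat.le_of_dvd (Nat.pos_of_ne_zero Subgroup.index_ne_zero_of_finite) (Subgroup.index_dvd_of_le hle)).trans ?_
  rw [IsCyclic.index_powMonoidHom_range]
  exact Nat.le_of_dvd two_pos (Nat.gcd_dvd_right _ _)

end Model

variable {M : Type u} [Group M] [Finite M] {Ω : Type v} [Finite Ω] [MulAction M Ω] [FaithfulSMul M Ω]
  [IsSimpleGroup M] {a b : Ω} {S : Sylow 2 M} {T : Subgroup M}

/-- `U₃(q)` occurs in degree `q³ + 1` only. -/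
theorem Sock.u3_degree (h : Sock a b S T) {F : Type w} [Field F] [Fintype F] {q : ℕ}
    (hF : Fintype.card F = q ^ 2) (hodd : Odd q) (hq2 : 2 < q) (e : M ≃* Cfsg.PSU 3 F q) {t : M} (ht : t ∈ T)
    (ht2 : t * t = 1) (ht1 : t ≠ 1) (hone : PairOne a b T t)
    (hall : ∀ s : M, s * s = 1 → s ≠ 1 → ∃ g : M, g * t * g⁻¹ = s) : Nat.card Ω = q ^ 3 + 1 := by
  classical
  haveI : Fact (Nat.Prime 2) := ⟨Nat.prime_two⟩
  have h2 : (2 : F) ≠ 0 := CfsgLib.SU3Inv.two_ne hF hodd
  set G3 := Cfsg.SU 3 F q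
  let π : G3 →* M := e.symm.toMonoidHom.comp (QuotientGroup.mk' (Subgroup.center G3))
  have hπ : Function.Surjective π := e.symm.surjective.comp (QuotientGroup.mk'_surjective _)
  have hker : π.ker = Subgroup.center G3 := by
    ext x
    rw [MonoidHom.mem_ker, MonoidHom.comp_apply, MulEquiv.coe_toMonoidHom, map_eq_one_iff _ e.symm.injective,
      QuotientGroup.mk'_apply, QuotientGroup.eq_one_iff]
  have hZodd : ∀ z ∈ Subgroup.center G3, z * z = 1 → z = 1 := by
    intro z hz hz2
    by_contra hz1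
    have hc : Nat.card (Subgroup.center G3) ∣ 3 := by
      rw [Cfsg.Agent.S0280.center_card hF 3 (by norm_num)]
      exact Nat.gcd_dvd_left _ _
    have h1 := Subgroup.orderOf_dvd_natCard _ hz
    rw [orderOf_eq_prime (p := 2) (by rw [pow_two]; exact hz2) hz1] at h1
    exact absurd (h1.trans hc) (by norm_num)
  -- an involution over `t`
  obtain ⟨x₀, hx₀⟩ := hπ t
  obtain ⟨x, hxt, hx2⟩ : ∃ x, π x = t ∧ x * x = 1 := by
    have hz : x₀ * x₀ ∈ Subgroup.center G3 := by rw [← hker, MonoidHom.mem_ker, map_mul, hx₀, ht2]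
    have hc : Nat.card (Subgroup.center G3) ∣ 3 := by
      rw [Cfsg.Agent.S0280.center_card hF 3 (by norm_num)]
      exact Nat.gcd_dvd_left _ _
    have h6 : x₀ ^ 6 = 1 := by
      have h1 : (x₀ * x₀) ^ 3 = 1 := orderOf_dvd_iff_pow_eq_one.mp ((Subgroup.orderOf_dvd_natCard _ hz).trans hc)
      rw [← pow_two, ← pow_mul] at h1
      exact h1
    refine ⟨x₀ ^ 3, ?_, by rw [← pow_add]; exact h6⟩
    rw [map_pow, hx₀, pow_succ, pow_two, ht2, one_mul]
  have hx1 : x ≠ 1 := fun e' => ht1 (by rw [← hxt, e', map_one])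
  -- its centraliser covers that of `t`
  set CX := Subgroup.centralizer ({x} : Set G3) with hCX
  set C := Subgroup.centralizer ({t} : Set M) with hCdef
  have hmap : CX.map π = C := by
    ext g
    constructor
    · rintro ⟨y, hy, rfl⟩
      rw [Subgroup.mem_centralizer_singleton_iff, ← hxt, ← map_mul, ← map_mul,
        Subgroup.mem_centralizer_singleton_iff.mp hy]
    · intro hg
      obtain ⟨y, rfl⟩ := hπ g
      refine ⟨y, Subgroup.mem_centralizer_singleton_iff.mpr ?_, rfl⟩
      set z := y * x * y⁻¹ * x⁻¹ with hz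
      have hzc : z ∈ Subgroup.center G3 := by
        rw [← hker, MonoidHom.mem_ker, hz, map_mul, map_mul, map_mul, map_inv, map_inv, hxt,
          Subgroup.mem_centralizer_singleton_iff.mp hg]
        group
      have e1 : z * x = y * x * y⁻¹ := by rw [hz, inv_mul_cancel_right]
      have hz2 : z * z = 1 := by
        have h3 : (z * x) * (z * x) = 1 := by
          rw [e1, show y * x * y⁻¹ * (y * x * y⁻¹) = y * (x * x) * y⁻¹ by group, hx2, mul_one, mul_inv_cancel]
        rwa [show z * x * (z * x) = z * (x * z) * x by group, Subgroup.mem_center_iff.mp hzc x,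
          show z * (z * x) * x = z * z * (x * x) by group, hx2, mul_one] at h3
      rw [hZodd z hzc hz2, one_mul] at e1
      calc y * x = y * x * y⁻¹ * y := by group
        _ = x * y := by rw [← e1]
  have hZle : π.ker ≤ CX := by
    rw [hker]
    exact fun z hz => Subgroup.mem_centralizer_singleton_iff.mpr (Subgroup.mem_center_iff.mp hz x).symm
  have hidxC : C.index = CX.index := by rw [← hmap, Subgroup.index_map_eq CX hπ hZle]
  have hcX := CfsgLib.SU3Inv.card_centralizer hF h2 x hx1 hx2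
  have hsu := CfsgLib.UnitaryOrder.card_GU_eq hF (n := 3) (by norm_num)
  rw [CfsgLib.UnitaryOrder.card_GU hF 3, show Finset.range 3 = {0, 1, 2} by decide] at hsu
  simp [Finset.prod_insert, show ¬ Even 1 by decide, show Even 2 by decide] at hsu
  rw [← Nat.card_eq_fintype_card] at hsu
  have hqq : q ≤ q ^ 2 := Nat.le_self_pow two_ne_zero q
  have hq1 : 1 ≤ q ^ 2 := Nat.one_le_pow 2 q (by omega)
  have hi : C.index = q ^ 2 * (q ^ 2 - q + 1) := by
    rw [hidxC]
    have e' := Subgroup.card_mul_index CX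
    rw [hcX] at e'
    change q * (q + 1) * (q ^ 2 - 1) * CX.index = Nat.card G3 at e'
    rw [← e'] at hsu
    have hpos : 0 < q ^ 2 - 1 := by have := Nat.mul_le_mul hq2.le hq2.le; rw [pow_two]; omega
    refine Nat.eq_of_mul_eq_mul_left (show 0 < (q + 1) * (q * (q + 1) * (q ^ 2 - 1)) by positivity) ?_
    zify [hqq, hq1] at hsu ⊢
    linear_combination -hsu
  -- the fixed points
  set k := Nat.card {y : Ω // t • y = y} with hk
  have hpar : k % 4 = 2 := h.parity ht2 ht1
  have hcardC : Nat.card C ∣ q * (q + 1) * (q ^ 2 - 1) := by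
    rw [← hcX, ← hmap]
    exact Subgroup.card_map_dvd CX π
  have hkle : k * (k - 1) ≤ q * (q + 1) ∧ k * (k - 1) ∣ q * (q + 1) := by
    suffices hd : k * (k - 1) ∣ q * (q + 1) from ⟨Nat.le_of_dvd (by positivity) hd, hd⟩
    have hk2 : k = 2 → k * (k - 1) ∣ q * (q + 1) := fun e' => by
      rw [e']
      exact even_iff_two_dvd.mp (Nat.even_mul_succ_self q)
    rcases Nat.lt_or_ge q 5 with h5 | h5
    · refine hk2 ?_
      have hq' : q = 3 := by have := Nat.odd_iff.mp hodd; omega
      have h96 : k * (k - 1) ∣ 96 := by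
        have h1 := (h.fixed_dvd ht ht2 ht1 hone).trans hcardC
        rw [hq'] at h1
        exact h1
      have hk11 : k ≤ 11 := by
        by_contra hlt
        have := Nat.le_of_dvd (by norm_num) h96
        have := Nat.mul_le_mul (show 12 ≤ k by omega) (show 11 ≤ k - 1 by omega)
        omega
      interval_cases k <;> revert hpar h96 <;> decide
    · obtain ⟨f, hp, hf⟩ := FiniteField.card F (ringChar F)
      haveI := Fact.mk hp
      obtain ⟨i, -, hqi⟩ := (Nat.dvd_prime_pow hp).mp (show q ∣ ringChar F ^ (f : ℕ) by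
        rw [← hf, hF]; exact dvd_pow_self q two_ne_zero)
      have hi0 : i ≠ 0 := fun e' => by rw [e', pow_zero] at hqi; omega
      let K := GaloisField (ringChar F) i
      haveI : Fintype K := Fintype.ofFinite K
      have hK : Fintype.card K = q := by rw [← Nat.card_eq_fintype_card, GaloisField.card _ _ hi0, ← hqi]
      obtain ⟨eK⟩ := Cfsg.Agent.S0281.result hF hK
      obtain ⟨g, hg⟩ := CfsgLib.SU3Inv.exists_conj_E hF h2 x hx1 hx2
      have hmemX : ∀ A, g * blk hF A * g⁻¹ ∈ CX := fun A => by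
        rw [Subgroup.mem_centralizer_singleton_iff, ← hg]
        calc g * blk hF A * g⁻¹ * (g * CfsgLib.SU3Inv.E hF * g⁻¹)
            = g * (blk hF A * CfsgLib.SU3Inv.E hF) * g⁻¹ := by group
          _ = g * CfsgLib.SU3Inv.E hF * g⁻¹ * (g * blk hF A * g⁻¹) := by rw [blk_comm hF]; group
      let γ : Cfsg.GU 2 F q →* CX := ((MulAut.conj g).toMonoidHom.comp (blk hF)).codRestrict CX hmemX
      have hγ : Function.Surjective γ := by
        refine (Function.Injective.bijective_of_nat_card_le (f := γ) ?_ ?_).2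
        · intro A B e'
          exact blk_inj hF ((MulAut.conj g).injective (congrArg Subtype.val e'))
        · rw [hcX, CfsgLib.UnitaryOrder.card_GU hF 2, show Finset.range 2 = {0, 1} by decide]
          simp [Finset.prod_insert, show ¬ Even 1 by decide]
          exact le_of_eq (by ring)
      let θ : CX →* C := (π.comp CX.subtype).codRestrict C fun y => hmap ▸ Subgroup.mem_map_of_mem π y.2
      have hθ : Function.Surjective θ := fun c => by
        obtain ⟨y, hy, e'⟩ : (c : M) ∈ CX.map π := hmap.symm ▸ c.2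
        exact ⟨⟨y, hy⟩, Subtype.ext e'⟩
      let ψ : Cfsg.GU 2 F q →* C := θ.comp γ
      have hψ : Function.Surjective ψ := hθ.comp hγ
      let j : Cfsg.SU 2 F q →* Cfsg.GU 2 F q :=
        (Matrix.SpecialLinearGroup.toGL.comp (Cfsg.SU 2 F q).subtype).codRestrict _ fun y => y.2
      let j' : Matrix.SpecialLinearGroup (Fin 2) K →* Cfsg.GU 2 F q := j.comp eK.symm.toMonoidHom
      set d := Matrix.GeneralLinearGroup.det.comp (Cfsg.GU 2 F q).subtype with hd
      have hjr : j'.range = d.ker := by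
        ext y
        constructor
        · rintro ⟨z, rfl⟩
          exact Units.ext (eK.symm z).1.2
        · intro hy
          refine ⟨eK ⟨⟨y.1.1, congrArg Units.val hy⟩, y.2⟩, Subtype.ext (Units.ext ?_)⟩
          show ((eK.symm (eK _)).1 : Matrix (Fin 2) (Fin 2) F) = _
          rw [MulEquiv.symm_apply_apply]
      let φ : Matrix.SpecialLinearGroup (Fin 2) K →* C := ψ.comp j'
      have hrange : φ.range = d.ker.map ψ := by rw [← hjr]; exact MonoidHom.range_comp _ _
      have hcenZ : (Subgroup.center (Cfsg.GU 2 F q)).map ψ ≤ Subgroup.center _ := by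
        rintro _ ⟨z, hz, rfl⟩
        refine Subgroup.mem_center_iff.mpr fun y => ?_
        obtain ⟨y, rfl⟩ := hψ y
        rw [← map_mul, ← map_mul, Subgroup.mem_center_iff.mp hz y]
      rcases h.fixed_degree ht2 ht1 hone (K := K) (by rw [hK]; exact hodd) (by rw [hK]; exact h5) φ
        (by rw [hrange]; exact Subgroup.Normal.map (MonoidHom.normal_ker _) ψ hψ)
        (fun z hz => hcenZ ⟨j' z, by
          -- central in `SU₂`, so scalar
          have h1 : eK.symm z ∈ Subgroup.center (Cfsg.SU 2 F q) :=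
            Subgroup.mem_center_iff.mpr fun y => by
              rw [← eK.symm_apply_apply y, ← map_mul, ← map_mul, Subgroup.mem_center_iff.mp hz]
          have hzz : z * z = 1 := by
            obtain ⟨w, hw, hw'⟩ := Matrix.SpecialLinearGroup.mem_center_iff.mp hz
            refine Subtype.ext ?_
            show z.1 * z.1 = 1
            rw [← hw', ← map_mul, show w * w = 1 by rw [← pow_two]; simpa using hw, map_one]
          have h2' : eK.symm z * eK.symm z = 1 := by rw [← map_mul, hzz, map_one]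
          rcases CfsgLib.SL2Orders.eq_one_or_neg_one_of_sq h2 (eK.symm z).1 (congrArg Subtype.val h2') with e' | e'
          · exact Subgroup.mem_center_iff.mpr fun y => Subtype.ext (Units.ext (by
              show y.1.1 * ((eK.symm z).1 : Matrix (Fin 2) (Fin 2) F) = ((eK.symm z).1 : Matrix (Fin 2) (Fin 2) F) * y.1.1
              rw [e']; simp))
          · exact Subgroup.mem_center_iff.mpr fun y => Subtype.ext (Units.ext (by
              show y.1.1 * ((eK.symm z).1 : Matrix (Fin 2) (Fin 2) F) = ((eK.symm z).1 : Matrix (Fin 2) (Fin 2) F) * y.1.1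
              rw [e']; simp)), rfl⟩)
        (by
          refine le_trans (Nat.le_of_dvd (Nat.pos_of_ne_zero Subgroup.index_ne_zero_of_finite)
            ((Subgroup.index_dvd_of_le (sup_le_sup_left hcenZ _)).trans ?_)) (gu_two_index hF)
          rw [hrange, ← Subgroup.map_sup]
          exact Subgroup.index_map_dvd _ hψ) with e' | e' | ⟨e9, e'⟩
      · exact hk2 e'
      · change k = Fintype.card K + 1 at e'
        rw [e', hK, Nat.add_sub_cancel, mul_comm]
      · change k = 6 at e'
        rw [hK] at e9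
        rw [e', e9]
        norm_num
  -- the degree
  obtain ⟨l, hl0, hl⟩ := h.count ht ht2 ht1 hall
  set n := Nat.card Ω with hn
  have hidxn : ((stabilizer M a).map e.toMonoidHom).index = n := by
    rw [Subgroup.index_map_of_bijective e.bijective, h.index_stab]
  have hproper : (stabilizer M a).map e.toMonoidHom ≠ ⊤ := fun e' => h.isCoatom_stab.1 (by
    rw [← Subgroup.comap_map_eq_self_of_injective (f := e.toMonoidHom) e.injective (stabilizer M a), e',
      Subgroup.comap_top])
  rw [hi] at hl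
  have hd : n * (n - 1) ∣ q ^ 2 * (q ^ 2 - q + 1) * (q * (q + 1)) :=
    (Dvd.intro l hl).trans (Nat.mul_dvd_mul_left _ hkle.2)
  have hprod : q ^ 2 * (q ^ 2 - q + 1) * (q * (q + 1)) = q ^ 3 * (q ^ 3 + 1) := by
    zify [hqq]; ring
  rw [hprod] at hd
  have hle := Nat.le_of_dvd (by positivity) hd
  have hmod : n % 4 = 2 := h.hn
  by_cases h5 : q = 5
  · subst h5
    have h50 : 50 ≤ n := hidxn ▸ (Cfsg.Agent.S2149.result (F := F) (by rw [hF]; norm_num)).1 _ hproper
    have hn126 : n ≤ 126 := by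
      by_contra hlt
      have := Nat.mul_le_mul (show 127 ≤ n by omega) (show 126 ≤ n - 1 by omega)
      norm_num at hle
      omega
    have hall' : ∀ i : Fin 127, 50 ≤ i.val → i.val % 4 = 2 → i.val * (i.val - 1) ∣ 15750 → i.val = 126 := by
      decide +kernel
    exact hall' ⟨n, by omega⟩ h50 hmod (by simpa using hd)
  · have hge : q ^ 3 + 1 ≤ n := hidxn ▸ (Cfsg.Agent.S2148.result q hF hq2 h5).1 _ hproper
    refine le_antisymm ?_ hge
    by_contra hlt
    have := Nat.mul_lt_mul_of_lt_of_le (show q ^ 3 + 1 < n by omega) (show q ^ 3 ≤ n - 1 by omega) (by omega)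
    rw [mul_comm (q ^ 3)] at hle
    omega

end CfsgLib.ONanTwo
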