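import Cfsg.Agent.Lib.ONanTwo.Perm.Special
import Cfsg.Agent.Lib.ONanTwo.Perm.Types
import Cfsg.Agent.Lib.ONanTwo.Perm.Dihedral
import Cfsg.Agent.Lib.ONanTwo.Perm.Pair
import Cfsg.Agent.Lib.ONanTwo.Perm.Linear
import Cfsg.Agent.Lib.ONanTwo.Perm.Unitary

/-!
Doubly transitive groups of degree `2 mod 4` whose two-point stabiliser has an abelian Sylow 2-subgroup or a special
involution, given the classification of the simple groups with semidihedral or wreathed Sylow 2-subgroups.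

Blueprint: `blueprint/S3402.md`, part C.
-/

set_option autoImplicit false
set_option linter.unusedSectionVars false
set_option linter.style.haveILetI false

namespace CfsgLib.ONanTwo

open MulAction

universe u v

section Socle

variable {M : Type u} [Group M] [Finite M] {Ω : Type v} [Finite Ω] [MulAction M Ω] [FaithfulSMul M Ω]
  [IsSimpleGroup M] {a b : Ω} {S : Sylow 2 M} {T : Subgroup M}

/-- `M₁₁` does not occur. -/
theorem Sock.m11_false (h : Sock a b S T) (hM : Cfsg.IsM11 M) : False := by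
  have hc := h.card_eq
  rw [hM.2] at hc
  have hd : Nat.card Ω * (Nat.card Ω - 1) ∣ 7920 := ⟨_, hc⟩
  have hf := h.card_dvd_factorial
  rw [hM.2] at hf
  have h11 : 11 ≤ Nat.card Ω :=
    (Nat.Prime.dvd_factorial (by norm_num)).mp ((show 11 ∣ 7920 by norm_num).trans hf)
  have hle := Nat.le_of_dvd (by norm_num) hd
  have h90 : Nat.card Ω < 91 := by
    by_contra hlt
    have := Nat.mul_le_mul (show 91 ≤ Nat.card Ω by omega) (show 90 ≤ Nat.card Ω - 1 by omega)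
    omega
  have hall : ∀ i : Fin 91, 11 ≤ i.val → i.val % 4 = 2 → ¬ i.val * (i.val - 1) ∣ 7920 := by decide +kernel
  exact hall ⟨_, h90⟩ h11 h.hn hd

/-- The semidihedral and wreathed cases. -/
theorem Sock.qw_case (h : Sock a b S T)
    (hS : Cfsg.IsQuasiDihedral (S : Subgroup M) ∨ Cfsg.IsWreathed (S : Subgroup M))
    (hMod : CfsgLib.RankTwoModel.Model M)
    (hone : ∀ t ∈ T, t * t = 1 → t ≠ 1 → PairOne a b T t) :
    ∃ (F : Type) (_ : Field F) (_ : Fintype F) (q : ℕ), Fintype.card F = q ^ 2 ∧ 2 < q ∧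
      Nat.card Ω = q ^ 3 + 1 ∧ Nonempty (M ≃* Cfsg.PSU 3 F q) := by
  haveI : Fact (Nat.Prime 2) := ⟨Nat.prime_two⟩
  have hna : ¬ IsMulCommutative M := CfsgLib.RankTwoModel.QW.noncomm ⟨S, hS⟩
  -- an involution of `T`
  have h2 : 2 ∣ Nat.card M := by
    refine dvd_trans ?_ (Subgroup.card_subgroup_dvd_card (S : Subgroup M))
    obtain ⟨k, hk⟩ := IsPGroup.iff_card.mp S.2
    rw [hk]
    refine dvd_pow_self 2 fun e => ?_
    have := qw_card hS
    rw [hk, e] at this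
    norm_num at this
  obtain ⟨x, hx⟩ := exists_prime_orderOf_dvd_card' 2 h2
  have hx2 : x * x = 1 := by rw [← pow_two, ← hx, pow_orderOf_eq_one]
  have hx1 : x ≠ 1 := fun e => by simp [e] at hx
  obtain ⟨g, hgT⟩ := h.inv_into hx2
  set t := g * x * g⁻¹
  have ht2 : t * t = 1 := by
    rw [show t * t = g * (x * x) * g⁻¹ by simp only [t]; group, hx2, mul_one, mul_inv_cancel]
  have ht1 : t ≠ 1 := fun e => hx1 (conj_eq_one_iff.mp e)
  have hall : ∀ s : M, s * s = 1 → s ≠ 1 → ∃ g : M, g * t * g⁻¹ = s := fun s hs hs1 =>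
    qw_conj hna hS ht2 ht1 hs hs1
  rcases hMod with ⟨F, iF, iFt, hodd, ⟨e⟩⟩ | ⟨F, iF, iFt, q, hF, hodd, ⟨e⟩⟩ | hM
  · exact (h.l3_false hodd e hgT ht2 ht1 (hone t hgT ht2 ht1) hall).elim
  · have hq : 2 < q := by
      by_contra hle
      have hq1 : q = 1 := by have := Nat.odd_iff.mp hodd; omega
      have := Fintype.one_lt_card (α := F)
      rw [hF, hq1] at this
      norm_num at this
    exact ⟨F, iF, iFt, q, hF, hq, h.u3_degree hF hodd hq e hgT ht2 ht1 (hone t hgT ht2 ht1) hall, ⟨e⟩⟩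
  · exact (h.m11_false hM).elim

end Socle

/-- The theorem, given the classification of the simple groups with semidihedral or wreathed Sylow 2-subgroups. -/
theorem two_transitive_of_model {G : Type u} [Group G] [Finite G]
    (hQW : ∀ (X : Type u) [Group X] [Finite X], IsSimpleGroup X → CfsgLib.RankTwoModel.QW X →
      CfsgLib.RankTwoModel.Model X)
    {Ω : Type v} [Fintype Ω] [MulAction G Ω] [FaithfulSMul G Ω]
    (h2 : MulAction.IsMultiplyPretransitive G Ω 2) (hn : Fintype.card Ω % 4 = 2) (hn2 : 2 < Fintype.card Ω)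
    (a b : Ω) (hab : a ≠ b) (T : Sylow 2 ↥(MulAction.stabilizer G a ⊓ MulAction.stabilizer G b))
    (hT : IsMulCommutative ↥(T : Subgroup ↥(MulAction.stabilizer G a ⊓ MulAction.stabilizer G b)) ∨
      ∃ u ∈ (T : Subgroup ↥(MulAction.stabilizer G a ⊓ MulAction.stabilizer G b)), orderOf u = 2 ∧
        ∀ x ∈ (T : Subgroup ↥(MulAction.stabilizer G a ⊓ MulAction.stabilizer G b)), x ≠ 1 →
          ∀ ω : Ω, (x : G) • ω = ω → (u : G) • ω = ω) :
    ∃ M : Subgroup G, M.Normal ∧ M ≠ ⊥ ∧ (∀ N : Subgroup G, N.Normal → N ≠ ⊥ → M ≤ N) ∧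
      MulAction.IsMultiplyPretransitive ↥M Ω 2 ∧
      ((Fintype.card Ω = 6 ∧ Nonempty (↥M ≃* ↥(alternatingGroup (Fin 6)))) ∨
        (∃ (F : Type) (_ : Field F) (_ : Fintype F), 4 ≤ Fintype.card F ∧ Fintype.card Ω = Fintype.card F + 1 ∧
          Nonempty (↥M ≃* Matrix.ProjectiveSpecialLinearGroup (Fin 2) F)) ∨
        (∃ (F : Type) (_ : Field F) (_ : Fintype F) (q : ℕ), Fintype.card F = q ^ 2 ∧ 2 < q ∧
          Fintype.card Ω = q ^ 3 + 1 ∧ Nonempty (↥M ≃* Cfsg.PSU 3 F q))) := by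
  classical
  haveI : Fact (Nat.Prime 2) := ⟨Nat.prime_two⟩
  obtain ⟨M, hMn, hMbot, hMmin, hMs, hM2, hMc⟩ := Cfsg.Agent.S3401.result h2 hn hn2
  haveI := hMn
  haveI := hMs
  refine ⟨M, hMn, hMbot, hMmin, hM2, ?_⟩
  haveI : FaithfulSMul M Ω := ⟨fun {x y} hxy => Subtype.ext (FaithfulSMul.eq_of_smul_eq_smul (α := Ω) hxy)⟩
  have hna : ¬ IsMulCommutative M := fun hc => hMbot (eq_bot_iff.mpr fun x hx => hMc ▸
    Subgroup.mem_centralizer_iff.mpr fun y hy => congrArg Subtype.val (hc.is_comm.comm ⟨y, hy⟩ ⟨x, hx⟩))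
  have twoG : ∀ {c d e f : Ω}, c ≠ d → e ≠ f → ∃ g : G, g • c = e ∧ g • d = f :=
    fun p q => is_two_pretransitive_iff.mp h2 p q
  have twoM : ∀ {c d e f : Ω}, c ≠ d → e ≠ f → ∃ g : M, g • c = e ∧ g • d = f :=
    fun p q => is_two_pretransitive_iff.mp hM2 p q
  have hn' : Nat.card Ω % 4 = 2 := by rw [Nat.card_eq_fintype_card]; exact hn
  have hn2' : 2 < Nat.card Ω := by rw [Nat.card_eq_fintype_card]; exact hn2
  set T₀ : Subgroup G := (T : Subgroup ↥(stabilizer G a ⊓ stabilizer G b)).map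
    (stabilizer G a ⊓ stabilizer G b).subtype with hT₀
  obtain ⟨S₀, h⟩ := exists_sock twoG hn' hn2' hab T₀ (Subgroup.map_subtype_le _)
    (by rw [hT₀, Subgroup.card_map_of_injective (Subgroup.subtype_injective _), T.card_eq_multiplicity])
  simp only [← Nat.card_eq_fintype_card (α := Ω)]
  -- the conclusion from the socle
  suffices hkey : (∃ (S : Sylow 2 M) (n : ℕ), Sock a b S (T₀.subgroupOf M) ∧ 2 ≤ n ∧
      Nonempty ((S : Subgroup M) ≃* DihedralGroup n)) ∨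
      ∃ S : Sylow 2 M, Sock a b S (T₀.subgroupOf M) ∧
        (Cfsg.IsQuasiDihedral (S : Subgroup M) ∨ Cfsg.IsWreathed (S : Subgroup M)) ∧
        ∀ t ∈ T₀.subgroupOf M, t * t = 1 → t ≠ 1 → PairOne a b (T₀.subgroupOf M) t by
    rcases hkey with ⟨S, n, hS, hn4, ⟨e⟩⟩ | ⟨S, hS, hSqw, hone⟩
    · exact (hS.dihedral_case hna hn4 e).imp_right Or.inl
    · exact Or.inr (Or.inr (hS.qw_case hSqw (hQW M hMs ⟨S, hSqw⟩) hone))
  rcases hT with hT | ⟨u, hu, huo, hspec⟩
  · obtain ⟨S, hS⟩ := CharPLocal.exists_sylow_subnormal S₀ hMn.isSubnormal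
    have hMS := h.restrict M twoM hS
    have hcomm : IsMulCommutative (T₀.subgroupOf M) := ⟨⟨fun x y => by
      obtain ⟨x', hx', ex⟩ : ((x : M) : G) ∈ T₀ := x.2
      obtain ⟨y', hy', ey⟩ : ((y : M) : G) ∈ T₀ := y.2
      refine Subtype.ext (Subtype.ext ?_)
      show ((x : M) : G) * ((y : M) : G) = ((y : M) : G) * ((x : M) : G)
      rw [← ex, ← ey]
      exact congrArg (fun z : (T : Subgroup ↥(stabilizer G a ⊓ stabilizer G b)) => ((z : ↥(stabilizer G a ⊓ stabilizer G b)) : G)) (hT.is_comm.comm ⟨x', hx'⟩ ⟨y', hy'⟩)⟩⟩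
    rcases hMS.types hna hcomm with ⟨n, hn4, he⟩ | hq
    · exact Or.inl ⟨S, n, hMS, hn4, he⟩
    · exact Or.inr ⟨S, hMS, hq, fun t ht ht2 ht1 => hMS.pairOne_of_comm hna hq hcomm ht ht2 ht1⟩
  · have hu1 : (u : G) ≠ 1 := fun e => by
      have : u = 1 := Subtype.ext e
      simp [this] at huo
    obtain ⟨S, hMS, ⟨w, hwS, hw2, hwT⟩, hS⟩ := h.special_types M hna twoM (u := (u : G))
      (Subgroup.mem_map_of_mem _ hu) hu1 (by
        rintro _ ⟨x, hx, rfl⟩ hx1 c hc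
        exact hspec x hx (fun e => hx1 (by rw [e]; rfl)) c hc)
    rcases hS with ⟨n, hn4, he⟩ | hq
    · exact Or.inl ⟨S, n, hMS, hn4, he⟩
    · exact Or.inr ⟨S, hMS, Or.inl hq, fun t ht ht2 ht1 => hMS.pairOne_of_qd hq hwS hw2 hwT ht ht2 ht1⟩

end CfsgLib.ONanTwo
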