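import Cfsg.Agent.Lib.ONanTwo.Perm.Setting
import Cfsg.Agent.Lib.PSL2Klein

/-!
Two-point fixed sets of conjugates of `T`, and a bound for the number of involutions of `L₂(q)`.

Blueprint: `blueprint/S3402.md`, part A.
-/

set_option autoImplicit false
set_option linter.unusedSectionVars false
set_option linter.style.haveILetI false

namespace CfsgLib.ONanTwo

open MulAction

universe u v

variable {M : Type u} [Group M] [Finite M] {Ω : Type v} [Finite Ω] [MulAction M Ω] {a b : Ω} {S : Sylow 2 M}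
  {T : Subgroup M}

theorem conj_smul_fix {g x : M} {c d : Ω} (hg : g • c = d) (hx : (g * x * g⁻¹) • d = d) : x • c = c := by
  rw [mul_smul, mul_smul, inv_smul_eq_iff.mpr hg.symm, ← hg] at hx
  exact MulAction.injective g hx

theorem Sock.card_S (h : Sock a b S T) : Nat.card (S : Subgroup M) = 2 * Nat.card T := by
  have e := Subgroup.card_mul_index (T.subgroupOf (S : Subgroup M))
  rw [Nat.card_congr (Subgroup.subgroupOfEquivOfLe h.le).toEquiv, h.idx] at e
  omega

theorem Sock.card_T_pos (h : Sock a b S T) : 0 < Nat.card T := Nat.card_pos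

/-- The conjugate of `T` through `P`, fixing exactly two points. -/
theorem Sock.exists_conj_T (h : Sock a b S T) {P : Subgroup M} (hP : IsPGroup 2 P) {c d : Ω} (hcd : c ≠ d)
    (hfix : ∀ x ∈ P, x • c = c ∧ x • d = d) :
    ∃ R : Subgroup M, IsPGroup 2 R ∧ Nat.card R = Nat.card T ∧ P ≤ R ∧ (∀ x ∈ R, x • c = c ∧ x • d = d) ∧
      (IsMulCommutative T → IsMulCommutative R) ∧
      ∀ e : Ω, (∀ x ∈ R, x • e = e) → e = c ∨ e = d := by
  obtain ⟨g, hc, hd, hg⟩ := h.into hP hcd hfix
  refine ⟨T.map (MulAut.conj g⁻¹).toMonoidHom, h.isPGroup.map _,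
    Subgroup.card_map_of_injective (MulAut.conj g⁻¹).injective, fun x hx => ⟨_, hg x hx, ?_⟩, ?_, ?_, ?_⟩
  · show g⁻¹ * (g * x * g⁻¹) * g⁻¹⁻¹ = x
    group
  · rintro _ ⟨t, ht, rfl⟩
    show (g⁻¹ * t * g⁻¹⁻¹) • c = c ∧ (g⁻¹ * t * g⁻¹⁻¹) • d = d
    rw [inv_inv, mul_smul, mul_smul, hc, h.fix_a ht, mul_smul, mul_smul, hd, h.fix_b ht]
    exact ⟨inv_smul_eq_iff.mpr hc.symm, inv_smul_eq_iff.mpr hd.symm⟩
  · intro hT
    exact Subgroup.map_isMulCommutative _ _
  · intro e he
    have h1 : ∀ t ∈ T, t • g • e = g • e := fun t ht => by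
      have h2 := he _ ⟨t, ht, rfl⟩
      change (g⁻¹ * t * g⁻¹⁻¹) • e = e at h2
      rw [inv_inv, mul_smul, mul_smul, inv_smul_eq_iff] at h2
      exact h2
    rcases h.fix_T h1 with e1 | e1
    · exact Or.inl (MulAction.injective g (e1.trans hc.symm))
    · exact Or.inr (MulAction.injective g (e1.trans hd.symm))

/-- A Sylow 2-subgroup fixes no point. -/
theorem Sock.not_fix (h : Sock a b S T) {P : Subgroup M} (hP : IsPGroup 2 P)
    (hcard : Nat.card T < Nat.card P) (c : Ω) : ∃ x ∈ P, x • c ≠ c := by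
  by_contra hh
  push Not at hh
  haveI : Fact (Nat.Prime 2) := ⟨Nat.prime_two⟩
  obtain ⟨d, hd, hcd⟩ := hP.exists_fixed_point_of_prime_dvd_card_of_fixed_point Ω (p := 2)
    (by have := h.hn; omega) (a := c) fun x => hh x x.2
  obtain ⟨g, -, -, hg⟩ := h.into hP hcd fun x hx => ⟨hh x hx, hd ⟨x, hx⟩⟩
  have h1 : Nat.card P ≤ Nat.card T := Nat.card_le_card_of_injective (fun x : P => (⟨_, hg x x.2⟩ : T))
    fun x y e => Subtype.ext (mul_left_cancel (mul_right_cancel (congrArg Subtype.val e)))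
  omega

theorem Sock.S_not_fix (h : Sock a b S T) (c : Ω) : ∃ x ∈ (S : Subgroup M), x • c ≠ c :=
  h.not_fix S.2 (by have := h.card_S; have := h.card_T_pos; omega) c

/-- An element of a subgroup of order four fixes what two of its non-trivial elements fix. -/
theorem fix_of_four {P : Subgroup M} (hP : Nat.card P = 4) {x y : M} (hx : x ∈ P) (hy : y ∈ P) (hx1 : x ≠ 1)
    (hy1 : y ≠ 1) (hxy : x ≠ y) {e : Ω} (hxe : x • e = e) (hye : y • e = e) : ∀ z ∈ P, z • e = e := by
  classical
  have h1 := Subgroup.card_dvd_of_le (inf_le_left : P ⊓ stabilizer M e ≤ P)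
  rw [hP] at h1
  have h3 : 3 ≤ Nat.card ↥(P ⊓ stabilizer M e) := by
    refine le_of_eq_of_le (Nat.card_fin 3).symm (Nat.card_le_card_of_injective
      (![⟨1, one_mem _⟩, ⟨x, hx, hxe⟩, ⟨y, hy, hye⟩] : Fin 3 → ↥(P ⊓ stabilizer M e)) ?_)
    intro i j
    fin_cases i <;> fin_cases j <;> simp [Subtype.ext_iff, hx1, hy1, hxy, hx1.symm, hy1.symm, hxy.symm]
  have h4 : Nat.card ↥(P ⊓ stabilizer M e) = 4 := by
    have := Nat.le_of_dvd (by norm_num) h1
    generalize Nat.card ↥(P ⊓ stabilizer M e) = r at *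
    interval_cases r <;> omega
  have h5 : P ⊓ stabilizer M e = P := Subgroup.eq_of_le_of_card_ge inf_le_left (by rw [hP, h4])
  exact fun z hz => ((h5.symm ▸ hz : z ∈ P ⊓ stabilizer M e)).2

open Matrix in
/-- There are at most `q (q + 1) / 2` involutions in `L₂(q)`, `q` odd. -/
theorem two_mul_card_involutions_le {F : Type*} [Field F] [Fintype F] (h2 : (2 : F) ≠ 0) :
    2 * Nat.card {z : Matrix.ProjectiveSpecialLinearGroup (Fin 2) F // z ≠ 1 ∧ z * z = 1} ≤
      Fintype.card F * (Fintype.card F + 1) := by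
  classical
  set Z := {z : Matrix.ProjectiveSpecialLinearGroup (Fin 2) F // z ≠ 1 ∧ z * z = 1}
  set W := {A : Matrix.SpecialLinearGroup (Fin 2) F // A.1.trace = 0}
  have hsurj : ∀ z : Z, ∃ A : W, PSL2.mk A.1 = z.1 := fun z => by
    obtain ⟨A, hA⟩ := PSL2Product.mk_surjective z.1
    exact ⟨⟨A, (PSL2Klein.invol_iff h2).mp (by rw [hA]; exact z.2)⟩, hA⟩
  choose lift hlift using hsurj
  have hne : ∀ A : W, (-A.1) ≠ A.1 := fun A e => by
    obtain ⟨hs, -, -⟩ := PSL2Klein.sq_of_trace h2 A.2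
    have h0 : A.1.1 = 0 := by
      have e' : -A.1.1 = A.1.1 := congrArg Subtype.val e
      ext i j
      have e'' := congrFun (congrFun e' i) j
      rw [Matrix.neg_apply, neg_eq_iff_add_eq_zero, ← two_mul] at e''
      exact (mul_eq_zero.mp e'').resolve_left h2
    have hd := A.1.2
    rw [h0] at hd
    simp at hd
  have h1 : 2 * Nat.card Z ≤ Nat.card W := by
    rw [show 2 * Nat.card Z = Nat.card (Bool × Z) by
      rw [Nat.card_prod, Nat.card_eq_fintype_card (α := Bool), Fintype.card_bool]]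
    refine Nat.card_le_card_of_injective (fun p => if p.1 then lift p.2
      else ⟨-(lift p.2).1, by
        show (-(lift p.2).1.1).trace = 0
        rw [Matrix.trace_neg, (lift p.2).2, neg_zero]⟩) ?_
    rintro ⟨i, z⟩ ⟨j, z'⟩ e
    have hz : z = z' := by
      have hneg : ∀ A : Matrix.SpecialLinearGroup (Fin 2) F, PSL2.mk (-A) = PSL2.mk A := fun A =>
        PSL2Klein.mk_eq_iff.mpr (Or.inr (neg_neg A).symm)
      have e' := congrArg (fun w : W => PSL2.mk w.1) e
      refine Subtype.ext ?_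
      cases i <;> cases j <;> simpa [hneg, hlift] using e'
    subst hz
    have e' := congrArg Subtype.val e
    cases i <;> cases j
    · rfl
    · exact absurd e' (hne (lift z))
    · exact absurd e'.symm (hne (lift z))
    · rfl
  have hroots : Nat.card {s : F // s * s = -1} ≤ 2 := by
    rw [Nat.card_eq_fintype_card, Fintype.card_subtype]
    refine le_trans (Finset.card_le_card (t := (Polynomial.X ^ 2 + Polynomial.C (1 : F)).roots.toFinset) ?_)
      ((Multiset.toFinset_card_le _).trans ((Polynomial.card_roots' _).trans ?_))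
    · intro s hs
      simp only [Finset.mem_filter, Finset.mem_univ, true_and] at hs
      rw [Multiset.mem_toFinset, Polynomial.mem_roots (Polynomial.monic_X_pow_add_C _ (by norm_num)).ne_zero,
        Polynomial.IsRoot, Polynomial.eval_add, Polynomial.eval_pow, Polynomial.eval_X, Polynomial.eval_C, sq, hs,
        neg_add_cancel]
    · rw [Polynomial.natDegree_X_pow_add_C]
  have hdet : ∀ A : W, A.1.1 0 0 * A.1.1 0 0 + A.1.1 0 1 * A.1.1 1 0 = -1 ∧ A.1.1 1 1 = -A.1.1 0 0 := fun A => by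
    have ht := A.2
    rw [Matrix.trace_fin_two] at ht
    have h11 : A.1.1 1 1 = -A.1.1 0 0 := by linear_combination ht
    have hd := A.1.2
    rw [Matrix.det_fin_two, h11] at hd
    exact ⟨by linear_combination -hd, h11⟩
  have h3 : Nat.card W ≤ Nat.card ((F × Fˣ) ⊕ ({s : F // s * s = -1} × F)) := by
    refine Nat.card_le_card_of_injective (fun A => if hb : A.1.1 0 1 = 0
      then Sum.inr (⟨A.1.1 0 0, by simpa [hb] using (hdet A).1⟩, A.1.1 1 0)
      else Sum.inl (A.1.1 0 0, Units.mk0 _ hb)) ?_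
    intro A B e
    obtain ⟨hA, hA1⟩ := hdet A
    obtain ⟨hB, hB1⟩ := hdet B
    dsimp only at e
    have key : A.1.1 0 0 = B.1.1 0 0 ∧ A.1.1 0 1 = B.1.1 0 1 ∧ A.1.1 1 0 = B.1.1 1 0 := by
      split_ifs at e with ha hb hb
      · simp only [Sum.inr.injEq, Prod.mk.injEq, Subtype.mk.injEq] at e
        exact ⟨e.1, ha.trans hb.symm, e.2⟩
      · simp only [Sum.inl.injEq, Prod.mk.injEq, Units.ext_iff, Units.val_mk0] at e
        refine ⟨e.1, e.2, mul_left_cancel₀ ha ?_⟩
        rw [e.1, e.2] at hA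
        rw [e.2]
        linear_combination hA - hB
    refine Subtype.ext (Subtype.ext ?_)
    ext i j
    fin_cases i <;> fin_cases j
    exacts [key.1, key.2.1, key.2.2, by simp only [Fin.mk_one, hA1, hB1, key.1]]
  rw [Nat.card_sum, Nat.card_prod, Nat.card_prod, Nat.card_units, Nat.card_eq_fintype_card (α := F)] at h3
  obtain ⟨m, hm⟩ : ∃ m, Fintype.card F = m + 1 := ⟨Fintype.card F - 1, by have := Fintype.card_pos (α := F); omega⟩
  rw [hm] at h3 ⊢
  rw [Nat.add_sub_cancel] at h3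
  have h4 := Nat.mul_le_mul_right (m + 1) hroots
  nlinarith

end CfsgLib.ONanTwo
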