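import Cfsg.Agent.S3401
import Cfsg.Agent.Lib.Fusion.RankTwoSimple

/-!
A simple doubly transitive group of degree `2 mod 4`: involutions fix points, the Sylow 2-subgroup `T` of a two-point
stabiliser has index two in a Sylow 2-subgroup `S` and fixes exactly two points.

Blueprint: `blueprint/S3402.md`, parts A and B.
-/

set_option autoImplicit false
set_option linter.unusedSectionVars false
set_option linter.style.haveILetI false

namespace CfsgLib.ONanTwo

open MulAction

universe u v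

theorem exists_ne_of_card {X : Type*} [Finite X] (h : 1 < Nat.card X) (x : X) : ∃ z, z ≠ x :=
  haveI := Finite.one_lt_card_iff_nontrivial.mp h
  exists_ne x

/-- The configuration. -/
structure Sock {M : Type u} [Group M] [Finite M] {Ω : Type v} [Finite Ω] [MulAction M Ω] (a b : Ω)
    (S : Sylow 2 M) (T : Subgroup M) : Prop where
  two : ∀ {c d e f : Ω}, c ≠ d → e ≠ f → ∃ g : M, g • c = e ∧ g • d = f
  hn : Nat.card Ω % 4 = 2
  hn2 : 2 < Nat.card Ω
  ne : a ≠ b
  le_stab : T ≤ stabilizer M a ⊓ stabilizer M b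
  le : T ≤ (S : Subgroup M)
  idx : (T.subgroupOf (S : Subgroup M)).index = 2

variable {M : Type u} [Group M] [Finite M] {Ω : Type v} [Finite Ω] [MulAction M Ω]

/-- The 2-parts of the orders of the group and of a two-point stabiliser. -/
theorem factorization_card (two : ∀ {c d e f : Ω}, c ≠ d → e ≠ f → ∃ g : M, g • c = e ∧ g • d = f)
    (hn : Nat.card Ω % 4 = 2) {c d : Ω} (hcd : c ≠ d) :
    (Nat.card M).factorization 2 = (Nat.card ↥(stabilizer M c ⊓ stabilizer M d)).factorization 2 + 1 := by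
  haveI := Fintype.ofFinite Ω
  have hcard : Nat.card Ω = Fintype.card Ω := Nat.card_eq_fintype_card
  have h2 : IsMultiplyPretransitive M Ω 2 := is_two_pretransitive_iff.mpr fun h1 h2 => two h1 h2
  haveI hpre : IsPretransitive M Ω := ⟨fun x z => by
    by_cases hx : x = c
    · obtain ⟨w, hw⟩ := exists_ne_of_card (show 1 < Nat.card Ω by omega) z
      obtain ⟨g, hg, -⟩ := two (show x ≠ d from hx ▸ hcd) hw.symm
      exact ⟨g, hg⟩
    · obtain ⟨w, hw⟩ := exists_ne_of_card (show 1 < Nat.card Ω by omega) z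
      obtain ⟨g, hg, -⟩ := two hx hw.symm
      exact ⟨g, hg⟩⟩
  have e1 := Cfsg.Agent.S3401.card_stab_mul (G := M) h2 hcd
  have e2 := index_stabilizer_of_transitive M (x := c)
  have e3 := Subgroup.card_mul_index (stabilizer M c)
  rw [e2, e1, hcard] at e3
  rw [hcard] at hn
  rw [← e3, Nat.factorization_mul (Nat.mul_ne_zero (by omega) Nat.card_pos.ne') (by omega),
    Nat.factorization_mul (by omega) Nat.card_pos.ne']
  simp only [Finsupp.coe_add, Pi.add_apply]
  have hodd : (Fintype.card Ω - 1).factorization 2 = 0 := Nat.factorization_eq_zero_of_not_dvd (by omega)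
  have htwo : (Fintype.card Ω).factorization 2 = 1 := by
    obtain ⟨r, hr⟩ : ∃ r, Fintype.card Ω = 2 * r := ⟨Fintype.card Ω / 2, by omega⟩
    rw [hr, Nat.factorization_mul two_ne_zero (by omega)]
    simp only [Finsupp.coe_add, Pi.add_apply]
    rw [Nat.Prime.factorization_self Nat.prime_two, Nat.factorization_eq_zero_of_not_dvd (by omega)]
  omega

/-- The configuration exists. -/
theorem exists_sock (two : ∀ {c d e f : Ω}, c ≠ d → e ≠ f → ∃ g : M, g • c = e ∧ g • d = f)
    (hn : Nat.card Ω % 4 = 2) (hn2 : 2 < Nat.card Ω) {a b : Ω} (hab : a ≠ b) (T : Subgroup M)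
    (hT : T ≤ stabilizer M a ⊓ stabilizer M b)
    (hTc : Nat.card T = 2 ^ (Nat.card ↥(stabilizer M a ⊓ stabilizer M b)).factorization 2) :
    ∃ S : Sylow 2 M, Sock a b S T := by
  haveI : Fact (Nat.Prime 2) := ⟨Nat.prime_two⟩
  obtain ⟨S, hS⟩ := (IsPGroup.of_card hTc).exists_le_sylow
  refine ⟨S, two, hn, hn2, hab, hT, hS, ?_⟩
  have e := Subgroup.card_mul_index (T.subgroupOf (S : Subgroup M))
  rw [Nat.card_congr (Subgroup.subgroupOfEquivOfLe hS).toEquiv, hTc, S.card_eq_multiplicity,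
    factorization_card two hn hab, pow_succ] at e
  exact Nat.eq_of_mul_eq_mul_left (by positivity) e

variable {a b : Ω} {S : Sylow 2 M} {T : Subgroup M}

theorem Sock.card_T (h : Sock a b S T) :
    Nat.card T = 2 ^ (Nat.card ↥(stabilizer M a ⊓ stabilizer M b)).factorization 2 := by
  haveI : Fact (Nat.Prime 2) := ⟨Nat.prime_two⟩
  have e := Subgroup.card_mul_index (T.subgroupOf (S : Subgroup M))
  rw [Nat.card_congr (Subgroup.subgroupOfEquivOfLe h.le).toEquiv, h.idx, S.card_eq_multiplicity,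
    factorization_card h.two h.hn h.ne, pow_succ] at e
  exact Nat.eq_of_mul_eq_mul_right two_pos e

theorem Sock.fix_a (h : Sock a b S T) {t : M} (ht : t ∈ T) : t • a = a := (h.le_stab ht).1

theorem Sock.fix_b (h : Sock a b S T) {t : M} (ht : t ∈ T) : t • b = b := (h.le_stab ht).2

theorem Sock.isPGroup (h : Sock a b S T) : IsPGroup 2 T := S.2.to_le h.le

/-- Doubly transitive implies transitive. -/
theorem Sock.trans (h : Sock a b S T) (c d : Ω) : ∃ g : M, g • c = d := by
  have hn2 := h.hn2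
  obtain ⟨c', hc'⟩ := exists_ne_of_card (show 1 < Nat.card Ω by omega) c
  obtain ⟨d', hd'⟩ := exists_ne_of_card (show 1 < Nat.card Ω by omega) d
  obtain ⟨g, hg, -⟩ := h.two hc'.symm hd'.symm
  exact ⟨g, hg⟩

/-- A 2-subgroup fixing two points is conjugate into `T`, carrying the points to `a` and `b`. -/
theorem Sock.into (h : Sock a b S T) {P : Subgroup M} (hP : IsPGroup 2 P) {c d : Ω} (hcd : c ≠ d)
    (hfix : ∀ x ∈ P, x • c = c ∧ x • d = d) :
    ∃ g : M, g • c = a ∧ g • d = b ∧ ∀ x ∈ P, g * x * g⁻¹ ∈ T := by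
  haveI : Fact (Nat.Prime 2) := ⟨Nat.prime_two⟩
  obtain ⟨g, hg1, hg2⟩ := h.two hcd h.ne
  set K := stabilizer M a ⊓ stabilizer M b with hK
  let T' : Sylow 2 K := Sylow.ofCard (T.subgroupOf K)
    (by rw [Nat.card_congr (Subgroup.subgroupOfEquivOfLe h.le_stab).toEquiv, h.card_T])
  have hPK : ∀ x ∈ P, g * x * g⁻¹ ∈ K := fun x hx => by
    refine ⟨?_, ?_⟩
    · show (g * x * g⁻¹) • a = a
      rw [mul_smul, mul_smul, inv_smul_eq_iff.mpr hg1.symm, (hfix x hx).1, hg1]
    · show (g * x * g⁻¹) • b = b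
      rw [mul_smul, mul_smul, inv_smul_eq_iff.mpr hg2.symm, (hfix x hx).2, hg2]
  set P' := (P.map (MulAut.conj g).toMonoidHom).subgroupOf K with hP'
  obtain ⟨k, hk⟩ := Cfsg.exists_conj_mem_sylow T'
    (X := P') ((hP.map _).comap_of_injective K.subtype Subtype.coe_injective)
  have hkK : (k : M) • a = a ∧ (k : M) • b = b := ⟨k.2.1, k.2.2⟩
  refine ⟨(k : M) * g, by rw [mul_smul, hg1, hkK.1], by rw [mul_smul, hg2, hkK.2], fun x hx => ?_⟩
  have := hk ⟨_, hPK x hx⟩ (show g * x * g⁻¹ ∈ P.map (MulAut.conj g).toMonoidHom from ⟨x, hx, rfl⟩)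
  have h' : (k : M) * (g * x * g⁻¹) * (k : M)⁻¹ ∈ T := this
  rwa [show (k : M) * g * x * ((k : M) * g)⁻¹ = (k : M) * (g * x * g⁻¹) * (k : M)⁻¹ by group]

variable [FaithfulSMul M Ω] [IsSimpleGroup M]

/-- The action is by even permutations. -/
theorem Sock.parity (h : Sock a b S T) {t : M} (ht : t * t = 1) (ht1 : t ≠ 1) :
    Nat.card {c : Ω // t • c = c} % 4 = 2 := by
  classical
  haveI := Fintype.ofFinite Ω
  set f : M →* ℤˣ := Equiv.Perm.sign.comp (MulAction.toPermHom M Ω) with hf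
  have hker : f.ker = ⊤ := by
    refine (f.normal_ker.eq_bot_or_eq_top).resolve_left fun e => ?_
    have hinj := (MonoidHom.ker_eq_bot_iff f).mp e
    have h1 := Nat.card_le_card_of_injective f hinj
    rw [Nat.card_eq_fintype_card (α := ℤˣ), Fintype.card_units_int] at h1
    obtain ⟨c, d, hcd⟩ : ∃ c d : Ω, c ≠ d := ⟨a, b, h.ne⟩
    obtain ⟨e, hec, hed⟩ : ∃ e : Ω, e ≠ c ∧ e ≠ d := by
      by_contra hh
      push Not at hh
      have h2 := h.hn2
      have : Nat.card Ω ≤ 2 := by
        refine le_of_le_of_eq (Nat.card_le_card_of_surjective (fun i : Fin 2 => if i = 0 then c else d) fun e => ?_)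
          (Nat.card_fin 2)
        by_cases he : e = c
        · exact ⟨0, by simp [he]⟩
        · exact ⟨1, by simp [hh e he]⟩
      omega
    obtain ⟨g₁, hg1, hg1'⟩ := h.two hcd hcd.symm
    obtain ⟨g₂, hg2, hg2'⟩ := h.two hcd hec
    haveI := Fintype.ofFinite M
    have h3 : ({1, g₁, g₂} : Finset M).card = 3 := by
      refine Finset.card_eq_three.mpr ⟨_, _, _, ?_, ?_, ?_, rfl⟩
      · intro e'; rw [← e', one_smul] at hg1; exact hcd hg1
      · intro e'; rw [← e', one_smul] at hg2; exact hec hg2.symm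
      · intro e'; rw [← e', hg1] at hg2; exact hed hg2.symm
    have h4 := h3.symm.trans_le (Finset.card_le_univ _)
    rw [Nat.card_eq_fintype_card] at h1
    omega
  have hsign : f t = 1 := by rw [← MonoidHom.mem_ker, hker]; trivial
  set σ := MulAction.toPermHom M Ω t with hσ
  have hσ2 : σ ^ 2 = 1 := by rw [hσ, ← map_pow, sq, ht, map_one]
  have hsign' : Equiv.Perm.sign σ = 1 := hsign
  rw [Equiv.Perm.sign_of_pow_two_eq_one hσ2] at hsign'
  have he : Fintype.card (Function.fixedPoints σ) = Nat.card {c : Ω // t • c = c} := by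
    rw [← Nat.card_eq_fintype_card]
    exact Nat.card_congr (Equiv.subtypeEquivRight fun c => Iff.rfl)
  rw [he] at hsign'
  have hev : Even ((Fintype.card Ω - Nat.card {c : Ω // t • c = c}) / 2) := by
    by_contra hh
    rw [(Nat.not_even_iff_odd.mp hh).neg_one_pow] at hsign'
    exact absurd hsign' (by decide)
  have hle : Nat.card {c : Ω // t • c = c} ≤ Fintype.card Ω := by
    rw [← Nat.card_eq_fintype_card]
    exact Nat.card_le_card_of_injective _ Subtype.val_injective
  have hn := h.hn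
  rw [Nat.card_eq_fintype_card] at hn
  have hpar : 2 ∣ Fintype.card Ω - Nat.card {c : Ω // t • c = c} := by
    have := IsPGroup.card_modEq_card_fixedPoints (p := 2) (G := Subgroup.zpowers t) (α := Ω)
      (IsPGroup.of_card (n := 1) (by
        haveI : Fact (Nat.Prime 2) := ⟨Nat.prime_two⟩
        rw [Nat.card_zpowers, pow_one]
        exact orderOf_eq_prime (by rw [pow_two, ht]) ht1))
    rw [Nat.card_eq_fintype_card (α := Ω)] at this
    have e : Nat.card (MulAction.fixedPoints (Subgroup.zpowers t) Ω) = Nat.card {c : Ω // t • c = c} := by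
      refine Nat.card_congr (Equiv.subtypeEquivRight fun c => ⟨fun hc => hc ⟨t, Subgroup.mem_zpowers t⟩, fun hc => ?_⟩)
      rintro ⟨g, i, rfl⟩
      show t ^ i • c = c
      have : t ∈ stabilizer M c := hc
      exact (stabilizer M c).zpow_mem this i
    rw [e] at this
    exact (Nat.modEq_iff_dvd' hle).mp this.symm
  obtain ⟨r, hr⟩ := hev
  omega

/-- Every involution is conjugate into `T`. -/
theorem Sock.inv_into (h : Sock a b S T) {t : M} (ht : t * t = 1) : ∃ g : M, g * t * g⁻¹ ∈ T := by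
  by_cases ht1 : t = 1
  · exact ⟨1, by rw [ht1, mul_one, mul_inv_cancel]; exact T.one_mem⟩
  haveI : Fact (Nat.Prime 2) := ⟨Nat.prime_two⟩
  have h1 := h.parity ht ht1
  haveI : Nontrivial {c : Ω // t • c = c} := Finite.one_lt_card_iff_nontrivial.mp (by omega)
  obtain ⟨⟨c, hc⟩, ⟨d, hd⟩, hcd⟩ := exists_pair_ne {c : Ω // t • c = c}
  obtain ⟨g, -, -, hg⟩ := h.into (P := Subgroup.zpowers t) (IsPGroup.of_card (n := 1) (by
      rw [Nat.card_zpowers, pow_one]; exact orderOf_eq_prime (by rw [pow_two, ht]) ht1))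
    (fun e => hcd (Subtype.ext e)) fun x hx => by
      obtain ⟨i, rfl⟩ := hx
      exact ⟨(stabilizer M c).zpow_mem hc i, (stabilizer M d).zpow_mem hd i⟩
  exact ⟨g, hg t (Subgroup.mem_zpowers t)⟩

omit [FaithfulSMul M Ω] [IsSimpleGroup M] in
/-- `T` fixes no third point. -/
theorem Sock.fix_T (h : Sock a b S T) {c : Ω} (hc : ∀ t ∈ T, t • c = c) : c = a ∨ c = b := by
  classical
  haveI : Fact (Nat.Prime 2) := ⟨Nat.prime_two⟩
  by_contra hh
  push Not at hh
  let F : Set Ω := {d | ∀ t ∈ T, t • d = d}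
  have haF : a ∈ F := fun t ht => h.fix_a ht
  have hbF : b ∈ F := fun t ht => h.fix_b ht
  -- the normaliser of `T` is doubly transitive on its fixed points
  set N := Subgroup.normalizer (T : Set M) with hN
  have hmove : ∀ d ∈ F, ∀ e ∈ F, d ≠ e → ∀ d' ∈ F, ∀ e' ∈ F, d' ≠ e' → ∃ g ∈ N, g • d = d' ∧ g • e = e' := by
    suffices key : ∀ d ∈ F, ∀ e ∈ F, d ≠ e → ∃ g ∈ N, g • d = a ∧ g • e = b by
      intro d hd e he hde d' hd' e' he' hde'
      obtain ⟨g, hg, g1, g2⟩ := key d hd e he hde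
      obtain ⟨g', hg', g1', g2'⟩ := key d' hd' e' he' hde'
      exact ⟨g'⁻¹ * g, mul_mem (inv_mem hg') hg, by rw [mul_smul, g1, inv_smul_eq_iff, g1'],
        by rw [mul_smul, g2, inv_smul_eq_iff, g2']⟩
    intro d hd e he hde
    obtain ⟨g, g1, g2, hg⟩ := h.into h.isPGroup hde fun t ht => ⟨hd t ht, he t ht⟩
    refine ⟨g, ?_, g1, g2⟩
    have e' : T.map (MulAut.conj g).toMonoidHom = T := Subgroup.eq_of_le_of_card_ge
      (by rintro _ ⟨t, ht, rfl⟩; exact hg t ht)
      (Subgroup.card_map_of_injective (MulAut.conj g).injective).ge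
    refine Subgroup.mem_normalizer_iff.mpr fun t => ?_
    conv_rhs => rw [← e']
    exact ⟨fun ht => ⟨t, ht, rfl⟩, fun ⟨s, hs, e''⟩ => (MulAut.conj g).injective e'' ▸ hs⟩
  have hinv : ∀ g ∈ N, ∀ d ∈ F, g • d ∈ F := fun g hg d hd t ht => by
    have h1 := hd _ ((Subgroup.mem_normalizer_iff''.mp hg t).mp ht)
    rw [mul_smul, mul_smul, inv_smul_eq_iff] at h1
    exact h1
  letI : MulAction N F :=
    { smul := fun g d => ⟨(g : M) • (d : Ω), hinv g g.2 d d.2⟩
      one_smul := fun d => Subtype.ext (one_smul M (d : Ω))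
      mul_smul := fun g g' d => Subtype.ext (mul_smul (g : M) (g' : M) (d : Ω)) }
  set π := MulAction.toPermHom N F with hπ
  have hπapp : ∀ (g : N) (d : F), ((π g d : F) : Ω) = (g : M) • (d : Ω) := fun g d => rfl
  have hST : (S : Subgroup M) ≤ N := by
    haveI := Subgroup.normal_of_index_eq_two h.idx
    exact (Subgroup.normal_subgroupOf_iff_le_normalizer h.le).1 inferInstance
  let P : Sylow 2 π.range := (S.subtype hST).mapSurjective π.rangeRestrict_surjective
  -- a Sylow 2-subgroup of the image has order at most two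
  have hP2 : Nat.card (P : Subgroup π.range) ≤ 2 := by
    obtain ⟨s, hs, hsT⟩ : ∃ s ∈ (S : Subgroup M), s ∉ T := by
      by_contra hh'
      push Not at hh'
      have := h.idx
      rw [Subgroup.subgroupOf_eq_top.mpr hh', Subgroup.index_top] at this
      omega
    refine le_of_le_of_eq (Nat.card_le_card_of_surjective (fun i : Fin 2 =>
      (⟨(if i = 0 then 1 else π.rangeRestrict ⟨s, hST hs⟩), ?_⟩ : (P : Subgroup π.range))) ?_) (Nat.card_fin 2)
    · split
      · exact one_mem _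
      · rw [Sylow.coe_mapSurjective]
        exact Subgroup.mem_map_of_mem _ (by rw [Sylow.coe_subtype]; exact hs)
    · rintro ⟨w, hw⟩
      rw [Sylow.coe_mapSurjective] at hw
      obtain ⟨⟨x, hxN⟩, hx, rfl⟩ := hw
      rw [Sylow.coe_subtype] at hx
      have hxS : x ∈ (S : Subgroup M) := hx
      have hker : ∀ t (ht : t ∈ T) (htN : t ∈ N), π.rangeRestrict ⟨t, htN⟩ = 1 := fun t ht htN =>
        Subtype.ext (Equiv.ext fun d => Subtype.ext (d.2 t ht))
      by_cases hxT : x ∈ T
      · exact ⟨0, Subtype.ext (by simp [hker x hxT hxN])⟩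
      · have hxs : x * s⁻¹ ∈ T := (Subgroup.mul_mem_iff_of_index_two h.idx
          (a := (⟨x, hxS⟩ : (S : Subgroup M))) (b := ⟨s⁻¹, inv_mem hs⟩)).mpr
          ⟨fun h1 => absurd h1 hxT, fun h1 => absurd ((inv_mem_iff (H := T)).mp h1) hsT⟩
        refine ⟨1, Subtype.ext ?_⟩
        have e : (⟨x, hxN⟩ : N) = ⟨x * s⁻¹, mul_mem hxN (inv_mem (hST hs))⟩ * ⟨s, hST hs⟩ :=
          Subtype.ext (by simp)
        show (if (1 : Fin 2) = 0 then 1 else π.rangeRestrict ⟨s, hST hs⟩) = π.rangeRestrict ⟨x, hxN⟩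
        rw [if_neg (by decide), e, map_mul, hker _ hxs, one_mul]
  -- an involution of the image swaps `a` and `b`
  haveI := Fintype.ofFinite F
  obtain ⟨g, hgN, hga, hgb⟩ := hmove a haF b hbF h.ne b hbF a haF h.ne.symm
  set w := π.rangeRestrict ⟨g, hgN⟩ with hw
  obtain ⟨e, o, ho, heo⟩ := Nat.exists_eq_two_pow_mul_odd (orderOf_pos w).ne'
  set x := w ^ o with hx
  have hxp : IsPGroup 2 (Subgroup.zpowers x) := IsPGroup.of_card (n := e) (by
    rw [Nat.card_zpowers, hx, orderOf_pow, heo, Nat.gcd_eq_right (Dvd.intro_left _ rfl),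
      Nat.mul_div_cancel _ ho.pos])
  have hswap : ∀ i : ℕ, Odd i → ((w ^ i : π.range) : Equiv.Perm F) ⟨a, haF⟩ = ⟨b, hbF⟩ := by
    rintro i ⟨j, rfl⟩
    rw [SubmonoidClass.coe_pow, pow_add, pow_mul, pow_one, Equiv.Perm.mul_apply]
    have h1 : ((w : π.range) : Equiv.Perm F) ⟨a, haF⟩ = ⟨b, hbF⟩ := Subtype.ext hga
    have h2 : ((w : π.range) : Equiv.Perm F) ⟨b, hbF⟩ = ⟨a, haF⟩ := Subtype.ext hgb
    rw [h1]
    induction j with
    | zero => simp
    | succ j ih => rw [pow_succ, Equiv.Perm.mul_apply, pow_two, Equiv.Perm.mul_apply, h2, h1]; exact ih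
  have hxab : ((x : π.range) : Equiv.Perm F) ⟨a, haF⟩ = ⟨b, hbF⟩ := hswap o ho
  have hxne : x ≠ 1 := fun e' => h.ne (congrArg Subtype.val ((e' ▸ hxab :
    ((1 : π.range) : Equiv.Perm F) ⟨a, haF⟩ = ⟨b, hbF⟩)))
  obtain ⟨c₀, hc₀⟩ := Cfsg.exists_conj_mem_sylow P hxp
  have hxP : Nat.card (Subgroup.zpowers x) ≤ 2 := by
    refine le_trans ?_ hP2
    refine Nat.card_le_card_of_injective (fun z => (⟨c₀ * z * c₀⁻¹, hc₀ z z.2⟩ : (P : Subgroup π.range)))
      fun z z' e' => Subtype.ext (mul_left_cancel (mul_right_cancel (congrArg Subtype.val e')))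
  rw [Nat.card_zpowers] at hxP
  have hx2 : x * x = 1 := by
    have h1 := orderOf_pos x
    have h2 : orderOf x ≠ 1 := fun e' => hxne (orderOf_eq_one_iff.mp e')
    rw [← pow_two, show 2 = orderOf x by omega, pow_orderOf_eq_one]
  -- Cayley parity
  have hPidx : Odd (P : Subgroup π.range).index :=
    Nat.odd_iff.mpr (Nat.two_dvd_ne_zero.mp P.not_dvd_index)
  have hbot : (⊥ : Subgroup π.range).index = 2 * (P : Subgroup π.range).index := by
    rw [Subgroup.index_bot, ← Subgroup.card_mul_index (P : Subgroup π.range)]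
    congr 1
    refine le_antisymm hP2 ?_
    haveI : Nontrivial (P : Subgroup π.range) :=
      ⟨⟨⟨_, hc₀ x (Subgroup.mem_zpowers x)⟩, 1, fun e' => hxne (conj_eq_one_iff.mp (congrArg Subtype.val e'))⟩⟩
    exact Finite.one_lt_card
  obtain ⟨K, hK, hK2⟩ := CfsgLib.RankTwoSimple.exists_index_two (⊥ : Subgroup π.range) hbot hPidx hx2
    fun u hu => hxne (by
      have h1 : u⁻¹ * x * u = 1 := Subgroup.mem_bot.mp hu
      calc x = u * (u⁻¹ * x * u) * u⁻¹ := by group
        _ = 1 := by rw [h1, mul_one, mul_inv_cancel])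
  have hKcard : Nat.card K = (P : Subgroup π.range).index := by
    have e := Subgroup.card_mul_index K
    have hb := hbot
    rw [Subgroup.index_bot] at hb
    rw [hK2, hb, mul_comm 2] at e
    exact Nat.eq_of_mul_eq_mul_right two_pos e
  -- the orbits of the odd normal subgroup are trivial
  letI : MulAction K F := MulAction.compHom F ((π.range.subtype).comp K.subtype)
  have hF3 : 3 ≤ Nat.card F := by
    refine le_of_eq_of_le (Nat.card_fin 3).symm (Nat.card_le_card_of_injective
      (![⟨a, haF⟩, ⟨b, hbF⟩, ⟨c, hc⟩] : Fin 3 → F) ?_)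
    intro i j
    fin_cases i <;> fin_cases j <;> simp [Subtype.ext_iff, h.ne, h.ne.symm, hh.1, hh.2, hh.1.symm, hh.2.symm]
  have hfixK : ∀ k : K, ∀ d : F, k • d = d := by
    intro k d
    by_contra hkd
    have hfull : ∀ e' : F, e' ∈ orbit K d := by
      intro e'
      by_cases hed : e' = d
      · rw [hed]; exact mem_orbit_self d
      obtain ⟨q, hqN, q1, q2⟩ := hmove d d.2 ((k • d : F) : Ω) (k • d).2
        (fun e'' => hkd (Subtype.ext e''.symm)) d d.2 e' e'.2 (fun e'' => hed (Subtype.ext e''.symm))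
      set qq := π.rangeRestrict ⟨q, hqN⟩
      refine ⟨⟨qq * (k : π.range) * qq⁻¹, hK.conj_mem _ k.2 qq⟩, Subtype.ext ?_⟩
      have hqd : ((qq : π.range) : Equiv.Perm F) d = d := Subtype.ext q1
      show ((((qq * (k : π.range) * qq⁻¹ : π.range)) : Equiv.Perm F) d : Ω) = e'
      rw [Subgroup.coe_mul, Subgroup.coe_mul, Equiv.Perm.mul_apply, Equiv.Perm.mul_apply, InvMemClass.coe_inv,
        Equiv.Perm.inv_eq_iff_eq.mpr hqd.symm]
      exact q2
    have h1 := MulAction.index_stabilizer K d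
    rw [show (orbit K d).ncard = Nat.card F by
      rw [Set.eq_univ_of_forall hfull, Set.ncard_univ]] at h1
    have h2 : Nat.card F ∣ Nat.card K := h1 ▸ Subgroup.index_dvd_card _
    have heven : 2 ∣ Nat.card F := by
      have h3 := h.isPGroup.card_modEq_card_fixedPoints (p := 2) (α := Ω)
      have e' : Nat.card (MulAction.fixedPoints T Ω) = Nat.card F :=
        Nat.card_congr (Equiv.subtypeEquivRight fun z => ⟨fun hz t ht => hz ⟨t, ht⟩, fun hz t => hz t t.2⟩)
      rw [e'] at h3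
      have hn := h.hn
      have : Nat.card Ω % 2 = Nat.card F % 2 := h3
      omega
    exact (Nat.not_even_iff_odd.mpr hPidx) (even_iff_two_dvd.mpr (hKcard ▸ heven.trans h2))
  -- so the image has order two, and it is transitive on three points
  have hKbot : K = ⊥ := (Subgroup.eq_bot_iff_forall _).mpr fun k hk =>
    Subtype.ext (Equiv.ext fun d => hfixK ⟨k, hk⟩ d)
  rw [hKbot, Subgroup.index_bot] at hK2
  have h3 : Nat.card F ≤ Nat.card π.range := Nat.card_le_card_of_surjective
    (fun q : π.range => ((q : Equiv.Perm F)) ⟨a, haF⟩) fun d => by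
      by_cases hd : d = ⟨a, haF⟩
      · exact ⟨1, hd.symm⟩
      · obtain ⟨q, hqN, -, q2⟩ := hmove b hbF a haF h.ne.symm a haF d d.2 fun e' => hd (Subtype.ext e'.symm)
        exact ⟨π.rangeRestrict ⟨q, hqN⟩, Subtype.ext q2⟩
  omega

end CfsgLib.ONanTwo
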